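import Cfsg.Agent.H29.CosetCert.HeOrder.L0C
import Cfsg.Agent.H29.CosetCert.HeOrder.L0S0
import Cfsg.Agent.H29.CosetCert.HeOrder.L0S1
import Cfsg.Agent.H29.CosetCert.HeOrder.L0S2
import Cfsg.Agent.H29.CosetCert.HeOrder.L0S3
import Cfsg.Agent.H29.CosetCert.HeOrder.L0S4
import Cfsg.Agent.H29.CosetCert.HeOrder.L0S5
import Cfsg.Agent.H29.CosetCert.HeOrder.L0S6
import Cfsg.Agent.H29.CosetCert.HeOrder.L0S7
import Cfsg.Agent.H29.CosetCert.HeOrder.L0S8
import Cfsg.Agent.H29.CosetCert.HeOrder.L0S9
import Cfsg.Agent.H29.CosetCert.HeOrder.L0S10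
import Cfsg.Agent.H29.CosetCert.HeOrder.L0S11
import Cfsg.Agent.H29.CosetCert.HeOrder.L0S12
import Cfsg.Agent.H29.CosetCert.HeOrder.L0S13
import Cfsg.Agent.H29.CosetCert.HeOrder.L0S14
import Cfsg.Agent.H29.CosetCert.HeOrder.L0S15
import Cfsg.Agent.H29.CosetCert.HeOrder.L0S16
import Cfsg.Agent.H29.CosetCert.HeOrder.L0S17
import Cfsg.Agent.H29.CosetCert.HeOrder.L0S18
import Cfsg.Agent.H29.CosetCert.HeOrder.L0S19
import Cfsg.Agent.H29.CosetCert.HeOrder.L0S20
import Cfsg.Agent.H29.CosetCert.HeOrder.L0S21
import Cfsg.Agent.H29.CosetCert.HeOrder.L0S22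
import Cfsg.Agent.H29.CosetCert.HeOrder.L0S23
import Cfsg.Agent.H29.CosetCert.HeOrder.L0S24
import Cfsg.Agent.H29.CosetCert.HeOrder.L0S25
import Cfsg.Agent.H29.CosetCert.HeOrder.L0S26
import Cfsg.Agent.H29.CosetCert.HeOrder.L0S27
import Cfsg.Agent.H29.CosetCert.HeOrder.L0S28
import Cfsg.Agent.H29.CosetCert.HeOrder.L0S29
import Cfsg.Agent.H29.CosetCert.HeOrder.L0S30
import Cfsg.Agent.H29.CosetCert.HeOrder.L0S31
import Cfsg.Agent.H29.CosetCert.HeOrder.L0S32
import Cfsg.Agent.H29.CosetCert.HeOrder.L0S33
import Cfsg.Agent.H29.CosetCert.HeOrder.L0S34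
import Cfsg.Agent.H29.CosetCert.HeOrder.L0S35

/-! Certificate data for the order of He, produced outside Lean and checked here. -/

set_option autoImplicit false
set_option maxRecDepth 16000
set_option Elab.async false

namespace H29.CosetCert.HeLvl0

open H29.CosetCert

theorem deds : ∀ k, lvl.nd ≤ k → k < lvl.N → ∃ s, chkDed lvl.F lvl.R lvl.S k s = true := by
  intro k h1 h2
  change 58371 ≤ k at h1
  change k < 205195 at h2
  by_cases c0 : k < 58627
  · exact chkList_get _ _ _ st0 58371 st0_ok.1 k (by omega) (by rw [st0_ok.2]; omega)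
  by_cases c1 : k < 58883
  · exact chkList_get _ _ _ st1 58627 st1_ok.1 k (by omega) (by rw [st1_ok.2]; omega)
  by_cases c2 : k < 59139
  · exact chkList_get _ _ _ st2 58883 st2_ok.1 k (by omega) (by rw [st2_ok.2]; omega)
  by_cases c3 : k < 59395
  · exact chkList_get _ _ _ st3 59139 st3_ok.1 k (by omega) (by rw [st3_ok.2]; omega)
  by_cases c4 : k < 59651
  · exact chkList_get _ _ _ st4 59395 st4_ok.1 k (by omega) (by rw [st4_ok.2]; omega)
  by_cases c5 : k < 59907
  · exact chkList_get _ _ _ st5 59651 st5_ok.1 k (by omega) (by rw [st5_ok.2]; omega)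
  by_cases c6 : k < 60163
  · exact chkList_get _ _ _ st6 59907 st6_ok.1 k (by omega) (by rw [st6_ok.2]; omega)
  by_cases c7 : k < 60419
  · exact chkList_get _ _ _ st7 60163 st7_ok.1 k (by omega) (by rw [st7_ok.2]; omega)
  by_cases c8 : k < 60675
  · exact chkList_get _ _ _ st8 60419 st8_ok.1 k (by omega) (by rw [st8_ok.2]; omega)
  by_cases c9 : k < 60931
  · exact chkList_get _ _ _ st9 60675 st9_ok.1 k (by omega) (by rw [st9_ok.2]; omega)
  by_cases c10 : k < 61187
  · exact chkList_get _ _ _ st10 60931 st10_ok.1 k (by omega) (by rw [st10_ok.2]; omega)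
  by_cases c11 : k < 61443
  · exact chkList_get _ _ _ st11 61187 st11_ok.1 k (by omega) (by rw [st11_ok.2]; omega)
  by_cases c12 : k < 61699
  · exact chkList_get _ _ _ st12 61443 st12_ok.1 k (by omega) (by rw [st12_ok.2]; omega)
  by_cases c13 : k < 61955
  · exact chkList_get _ _ _ st13 61699 st13_ok.1 k (by omega) (by rw [st13_ok.2]; omega)
  by_cases c14 : k < 62211
  · exact chkList_get _ _ _ st14 61955 st14_ok.1 k (by omega) (by rw [st14_ok.2]; omega)
  by_cases c15 : k < 62467
  · exact chkList_get _ _ _ st15 62211 st15_ok.1 k (by omega) (by rw [st15_ok.2]; omega)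
  by_cases c16 : k < 62723
  · exact chkList_get _ _ _ st16 62467 st16_ok.1 k (by omega) (by rw [st16_ok.2]; omega)
  by_cases c17 : k < 62979
  · exact chkList_get _ _ _ st17 62723 st17_ok.1 k (by omega) (by rw [st17_ok.2]; omega)
  by_cases c18 : k < 63235
  · exact chkList_get _ _ _ st18 62979 st18_ok.1 k (by omega) (by rw [st18_ok.2]; omega)
  by_cases c19 : k < 63491
  · exact chkList_get _ _ _ st19 63235 st19_ok.1 k (by omega) (by rw [st19_ok.2]; omega)
  by_cases c20 : k < 63747
  · exact chkList_get _ _ _ st20 63491 st20_ok.1 k (by omega) (by rw [st20_ok.2]; omega)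
  by_cases c21 : k < 64003
  · exact chkList_get _ _ _ st21 63747 st21_ok.1 k (by omega) (by rw [st21_ok.2]; omega)
  by_cases c22 : k < 64259
  · exact chkList_get _ _ _ st22 64003 st22_ok.1 k (by omega) (by rw [st22_ok.2]; omega)
  by_cases c23 : k < 64515
  · exact chkList_get _ _ _ st23 64259 st23_ok.1 k (by omega) (by rw [st23_ok.2]; omega)
  by_cases c24 : k < 64771
  · exact chkList_get _ _ _ st24 64515 st24_ok.1 k (by omega) (by rw [st24_ok.2]; omega)
  by_cases c25 : k < 65027
  · exact chkList_get _ _ _ st25 64771 st25_ok.1 k (by omega) (by rw [st25_ok.2]; omega)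
  by_cases c26 : k < 65283
  · exact chkList_get _ _ _ st26 65027 st26_ok.1 k (by omega) (by rw [st26_ok.2]; omega)
  by_cases c27 : k < 65539
  · exact chkList_get _ _ _ st27 65283 st27_ok.1 k (by omega) (by rw [st27_ok.2]; omega)
  by_cases c28 : k < 65795
  · exact chkList_get _ _ _ st28 65539 st28_ok.1 k (by omega) (by rw [st28_ok.2]; omega)
  by_cases c29 : k < 66051
  · exact chkList_get _ _ _ st29 65795 st29_ok.1 k (by omega) (by rw [st29_ok.2]; omega)
  by_cases c30 : k < 66307
  · exact chkList_get _ _ _ st30 66051 st30_ok.1 k (by omega) (by rw [st30_ok.2]; omega)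
  by_cases c31 : k < 66563
  · exact chkList_get _ _ _ st31 66307 st31_ok.1 k (by omega) (by rw [st31_ok.2]; omega)
  by_cases c32 : k < 66819
  · exact chkList_get _ _ _ st32 66563 st32_ok.1 k (by omega) (by rw [st32_ok.2]; omega)
  by_cases c33 : k < 67075
  · exact chkList_get _ _ _ st33 66819 st33_ok.1 k (by omega) (by rw [st33_ok.2]; omega)
  by_cases c34 : k < 67331
  · exact chkList_get _ _ _ st34 67075 st34_ok.1 k (by omega) (by rw [st34_ok.2]; omega)
  by_cases c35 : k < 67587
  · exact chkList_get _ _ _ st35 67331 st35_ok.1 k (by omega) (by rw [st35_ok.2]; omega)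
  by_cases c36 : k < 67843
  · exact chkList_get _ _ _ st36 67587 st36_ok.1 k (by omega) (by rw [st36_ok.2]; omega)
  by_cases c37 : k < 68099
  · exact chkList_get _ _ _ st37 67843 st37_ok.1 k (by omega) (by rw [st37_ok.2]; omega)
  by_cases c38 : k < 68355
  · exact chkList_get _ _ _ st38 68099 st38_ok.1 k (by omega) (by rw [st38_ok.2]; omega)
  by_cases c39 : k < 68611
  · exact chkList_get _ _ _ st39 68355 st39_ok.1 k (by omega) (by rw [st39_ok.2]; omega)
  by_cases c40 : k < 68867
  · exact chkList_get _ _ _ st40 68611 st40_ok.1 k (by omega) (by rw [st40_ok.2]; omega)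
  by_cases c41 : k < 69123
  · exact chkList_get _ _ _ st41 68867 st41_ok.1 k (by omega) (by rw [st41_ok.2]; omega)
  by_cases c42 : k < 69379
  · exact chkList_get _ _ _ st42 69123 st42_ok.1 k (by omega) (by rw [st42_ok.2]; omega)
  by_cases c43 : k < 69635
  · exact chkList_get _ _ _ st43 69379 st43_ok.1 k (by omega) (by rw [st43_ok.2]; omega)
  by_cases c44 : k < 69891
  · exact chkList_get _ _ _ st44 69635 st44_ok.1 k (by omega) (by rw [st44_ok.2]; omega)
  by_cases c45 : k < 70147
  · exact chkList_get _ _ _ st45 69891 st45_ok.1 k (by omega) (by rw [st45_ok.2]; omega)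
  by_cases c46 : k < 70403
  · exact chkList_get _ _ _ st46 70147 st46_ok.1 k (by omega) (by rw [st46_ok.2]; omega)
  by_cases c47 : k < 70659
  · exact chkList_get _ _ _ st47 70403 st47_ok.1 k (by omega) (by rw [st47_ok.2]; omega)
  by_cases c48 : k < 70915
  · exact chkList_get _ _ _ st48 70659 st48_ok.1 k (by omega) (by rw [st48_ok.2]; omega)
  by_cases c49 : k < 71171
  · exact chkList_get _ _ _ st49 70915 st49_ok.1 k (by omega) (by rw [st49_ok.2]; omega)
  by_cases c50 : k < 71427
  · exact chkList_get _ _ _ st50 71171 st50_ok.1 k (by omega) (by rw [st50_ok.2]; omega)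
  by_cases c51 : k < 71683
  · exact chkList_get _ _ _ st51 71427 st51_ok.1 k (by omega) (by rw [st51_ok.2]; omega)
  by_cases c52 : k < 71939
  · exact chkList_get _ _ _ st52 71683 st52_ok.1 k (by omega) (by rw [st52_ok.2]; omega)
  by_cases c53 : k < 72195
  · exact chkList_get _ _ _ st53 71939 st53_ok.1 k (by omega) (by rw [st53_ok.2]; omega)
  by_cases c54 : k < 72451
  · exact chkList_get _ _ _ st54 72195 st54_ok.1 k (by omega) (by rw [st54_ok.2]; omega)
  by_cases c55 : k < 72707
  · exact chkList_get _ _ _ st55 72451 st55_ok.1 k (by omega) (by rw [st55_ok.2]; omega)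
  by_cases c56 : k < 72963
  · exact chkList_get _ _ _ st56 72707 st56_ok.1 k (by omega) (by rw [st56_ok.2]; omega)
  by_cases c57 : k < 73219
  · exact chkList_get _ _ _ st57 72963 st57_ok.1 k (by omega) (by rw [st57_ok.2]; omega)
  by_cases c58 : k < 73475
  · exact chkList_get _ _ _ st58 73219 st58_ok.1 k (by omega) (by rw [st58_ok.2]; omega)
  by_cases c59 : k < 73731
  · exact chkList_get _ _ _ st59 73475 st59_ok.1 k (by omega) (by rw [st59_ok.2]; omega)
  by_cases c60 : k < 73987
  · exact chkList_get _ _ _ st60 73731 st60_ok.1 k (by omega) (by rw [st60_ok.2]; omega)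
  by_cases c61 : k < 74243
  · exact chkList_get _ _ _ st61 73987 st61_ok.1 k (by omega) (by rw [st61_ok.2]; omega)
  by_cases c62 : k < 74499
  · exact chkList_get _ _ _ st62 74243 st62_ok.1 k (by omega) (by rw [st62_ok.2]; omega)
  by_cases c63 : k < 74755
  · exact chkList_get _ _ _ st63 74499 st63_ok.1 k (by omega) (by rw [st63_ok.2]; omega)
  by_cases c64 : k < 75011
  · exact chkList_get _ _ _ st64 74755 st64_ok.1 k (by omega) (by rw [st64_ok.2]; omega)
  by_cases c65 : k < 75267
  · exact chkList_get _ _ _ st65 75011 st65_ok.1 k (by omega) (by rw [st65_ok.2]; omega)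
  by_cases c66 : k < 75523
  · exact chkList_get _ _ _ st66 75267 st66_ok.1 k (by omega) (by rw [st66_ok.2]; omega)
  by_cases c67 : k < 75779
  · exact chkList_get _ _ _ st67 75523 st67_ok.1 k (by omega) (by rw [st67_ok.2]; omega)
  by_cases c68 : k < 76035
  · exact chkList_get _ _ _ st68 75779 st68_ok.1 k (by omega) (by rw [st68_ok.2]; omega)
  by_cases c69 : k < 76291
  · exact chkList_get _ _ _ st69 76035 st69_ok.1 k (by omega) (by rw [st69_ok.2]; omega)
  by_cases c70 : k < 76547
  · exact chkList_get _ _ _ st70 76291 st70_ok.1 k (by omega) (by rw [st70_ok.2]; omega)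
  by_cases c71 : k < 76803
  · exact chkList_get _ _ _ st71 76547 st71_ok.1 k (by omega) (by rw [st71_ok.2]; omega)
  by_cases c72 : k < 77059
  · exact chkList_get _ _ _ st72 76803 st72_ok.1 k (by omega) (by rw [st72_ok.2]; omega)
  by_cases c73 : k < 77315
  · exact chkList_get _ _ _ st73 77059 st73_ok.1 k (by omega) (by rw [st73_ok.2]; omega)
  by_cases c74 : k < 77571
  · exact chkList_get _ _ _ st74 77315 st74_ok.1 k (by omega) (by rw [st74_ok.2]; omega)
  by_cases c75 : k < 77827
  · exact chkList_get _ _ _ st75 77571 st75_ok.1 k (by omega) (by rw [st75_ok.2]; omega)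
  by_cases c76 : k < 78083
  · exact chkList_get _ _ _ st76 77827 st76_ok.1 k (by omega) (by rw [st76_ok.2]; omega)
  by_cases c77 : k < 78339
  · exact chkList_get _ _ _ st77 78083 st77_ok.1 k (by omega) (by rw [st77_ok.2]; omega)
  by_cases c78 : k < 78595
  · exact chkList_get _ _ _ st78 78339 st78_ok.1 k (by omega) (by rw [st78_ok.2]; omega)
  by_cases c79 : k < 78851
  · exact chkList_get _ _ _ st79 78595 st79_ok.1 k (by omega) (by rw [st79_ok.2]; omega)
  by_cases c80 : k < 79107
  · exact chkList_get _ _ _ st80 78851 st80_ok.1 k (by omega) (by rw [st80_ok.2]; omega)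
  by_cases c81 : k < 79363
  · exact chkList_get _ _ _ st81 79107 st81_ok.1 k (by omega) (by rw [st81_ok.2]; omega)
  by_cases c82 : k < 79619
  · exact chkList_get _ _ _ st82 79363 st82_ok.1 k (by omega) (by rw [st82_ok.2]; omega)
  by_cases c83 : k < 79875
  · exact chkList_get _ _ _ st83 79619 st83_ok.1 k (by omega) (by rw [st83_ok.2]; omega)
  by_cases c84 : k < 80131
  · exact chkList_get _ _ _ st84 79875 st84_ok.1 k (by omega) (by rw [st84_ok.2]; omega)
  by_cases c85 : k < 80387
  · exact chkList_get _ _ _ st85 80131 st85_ok.1 k (by omega) (by rw [st85_ok.2]; omega)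
  by_cases c86 : k < 80643
  · exact chkList_get _ _ _ st86 80387 st86_ok.1 k (by omega) (by rw [st86_ok.2]; omega)
  by_cases c87 : k < 80899
  · exact chkList_get _ _ _ st87 80643 st87_ok.1 k (by omega) (by rw [st87_ok.2]; omega)
  by_cases c88 : k < 81155
  · exact chkList_get _ _ _ st88 80899 st88_ok.1 k (by omega) (by rw [st88_ok.2]; omega)
  by_cases c89 : k < 81411
  · exact chkList_get _ _ _ st89 81155 st89_ok.1 k (by omega) (by rw [st89_ok.2]; omega)
  by_cases c90 : k < 81667
  · exact chkList_get _ _ _ st90 81411 st90_ok.1 k (by omega) (by rw [st90_ok.2]; omega)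
  by_cases c91 : k < 81923
  · exact chkList_get _ _ _ st91 81667 st91_ok.1 k (by omega) (by rw [st91_ok.2]; omega)
  by_cases c92 : k < 82179
  · exact chkList_get _ _ _ st92 81923 st92_ok.1 k (by omega) (by rw [st92_ok.2]; omega)
  by_cases c93 : k < 82435
  · exact chkList_get _ _ _ st93 82179 st93_ok.1 k (by omega) (by rw [st93_ok.2]; omega)
  by_cases c94 : k < 82691
  · exact chkList_get _ _ _ st94 82435 st94_ok.1 k (by omega) (by rw [st94_ok.2]; omega)
  by_cases c95 : k < 82947
  · exact chkList_get _ _ _ st95 82691 st95_ok.1 k (by omega) (by rw [st95_ok.2]; omega)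
  by_cases c96 : k < 83203
  · exact chkList_get _ _ _ st96 82947 st96_ok.1 k (by omega) (by rw [st96_ok.2]; omega)
  by_cases c97 : k < 83459
  · exact chkList_get _ _ _ st97 83203 st97_ok.1 k (by omega) (by rw [st97_ok.2]; omega)
  by_cases c98 : k < 83715
  · exact chkList_get _ _ _ st98 83459 st98_ok.1 k (by omega) (by rw [st98_ok.2]; omega)
  by_cases c99 : k < 83971
  · exact chkList_get _ _ _ st99 83715 st99_ok.1 k (by omega) (by rw [st99_ok.2]; omega)
  by_cases c100 : k < 84227
  · exact chkList_get _ _ _ st100 83971 st100_ok.1 k (by omega) (by rw [st100_ok.2]; omega)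
  by_cases c101 : k < 84483
  · exact chkList_get _ _ _ st101 84227 st101_ok.1 k (by omega) (by rw [st101_ok.2]; omega)
  by_cases c102 : k < 84739
  · exact chkList_get _ _ _ st102 84483 st102_ok.1 k (by omega) (by rw [st102_ok.2]; omega)
  by_cases c103 : k < 84995
  · exact chkList_get _ _ _ st103 84739 st103_ok.1 k (by omega) (by rw [st103_ok.2]; omega)
  by_cases c104 : k < 85251
  · exact chkList_get _ _ _ st104 84995 st104_ok.1 k (by omega) (by rw [st104_ok.2]; omega)
  by_cases c105 : k < 85507
  · exact chkList_get _ _ _ st105 85251 st105_ok.1 k (by omega) (by rw [st105_ok.2]; omega)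
  by_cases c106 : k < 85763
  · exact chkList_get _ _ _ st106 85507 st106_ok.1 k (by omega) (by rw [st106_ok.2]; omega)
  by_cases c107 : k < 86019
  · exact chkList_get _ _ _ st107 85763 st107_ok.1 k (by omega) (by rw [st107_ok.2]; omega)
  by_cases c108 : k < 86275
  · exact chkList_get _ _ _ st108 86019 st108_ok.1 k (by omega) (by rw [st108_ok.2]; omega)
  by_cases c109 : k < 86531
  · exact chkList_get _ _ _ st109 86275 st109_ok.1 k (by omega) (by rw [st109_ok.2]; omega)
  by_cases c110 : k < 86787
  · exact chkList_get _ _ _ st110 86531 st110_ok.1 k (by omega) (by rw [st110_ok.2]; omega)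
  by_cases c111 : k < 87043
  · exact chkList_get _ _ _ st111 86787 st111_ok.1 k (by omega) (by rw [st111_ok.2]; omega)
  by_cases c112 : k < 87299
  · exact chkList_get _ _ _ st112 87043 st112_ok.1 k (by omega) (by rw [st112_ok.2]; omega)
  by_cases c113 : k < 87555
  · exact chkList_get _ _ _ st113 87299 st113_ok.1 k (by omega) (by rw [st113_ok.2]; omega)
  by_cases c114 : k < 87811
  · exact chkList_get _ _ _ st114 87555 st114_ok.1 k (by omega) (by rw [st114_ok.2]; omega)
  by_cases c115 : k < 88067
  · exact chkList_get _ _ _ st115 87811 st115_ok.1 k (by omega) (by rw [st115_ok.2]; omega)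
  by_cases c116 : k < 88323
  · exact chkList_get _ _ _ st116 88067 st116_ok.1 k (by omega) (by rw [st116_ok.2]; omega)
  by_cases c117 : k < 88579
  · exact chkList_get _ _ _ st117 88323 st117_ok.1 k (by omega) (by rw [st117_ok.2]; omega)
  by_cases c118 : k < 88835
  · exact chkList_get _ _ _ st118 88579 st118_ok.1 k (by omega) (by rw [st118_ok.2]; omega)
  by_cases c119 : k < 89091
  · exact chkList_get _ _ _ st119 88835 st119_ok.1 k (by omega) (by rw [st119_ok.2]; omega)
  by_cases c120 : k < 89347
  · exact chkList_get _ _ _ st120 89091 st120_ok.1 k (by omega) (by rw [st120_ok.2]; omega)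
  by_cases c121 : k < 89603
  · exact chkList_get _ _ _ st121 89347 st121_ok.1 k (by omega) (by rw [st121_ok.2]; omega)
  by_cases c122 : k < 89859
  · exact chkList_get _ _ _ st122 89603 st122_ok.1 k (by omega) (by rw [st122_ok.2]; omega)
  by_cases c123 : k < 90115
  · exact chkList_get _ _ _ st123 89859 st123_ok.1 k (by omega) (by rw [st123_ok.2]; omega)
  by_cases c124 : k < 90371
  · exact chkList_get _ _ _ st124 90115 st124_ok.1 k (by omega) (by rw [st124_ok.2]; omega)
  by_cases c125 : k < 90627
  · exact chkList_get _ _ _ st125 90371 st125_ok.1 k (by omega) (by rw [st125_ok.2]; omega)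
  by_cases c126 : k < 90883
  · exact chkList_get _ _ _ st126 90627 st126_ok.1 k (by omega) (by rw [st126_ok.2]; omega)
  by_cases c127 : k < 91139
  · exact chkList_get _ _ _ st127 90883 st127_ok.1 k (by omega) (by rw [st127_ok.2]; omega)
  by_cases c128 : k < 91395
  · exact chkList_get _ _ _ st128 91139 st128_ok.1 k (by omega) (by rw [st128_ok.2]; omega)
  by_cases c129 : k < 91651
  · exact chkList_get _ _ _ st129 91395 st129_ok.1 k (by omega) (by rw [st129_ok.2]; omega)
  by_cases c130 : k < 91907
  · exact chkList_get _ _ _ st130 91651 st130_ok.1 k (by omega) (by rw [st130_ok.2]; omega)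
  by_cases c131 : k < 92163
  · exact chkList_get _ _ _ st131 91907 st131_ok.1 k (by omega) (by rw [st131_ok.2]; omega)
  by_cases c132 : k < 92419
  · exact chkList_get _ _ _ st132 92163 st132_ok.1 k (by omega) (by rw [st132_ok.2]; omega)
  by_cases c133 : k < 92675
  · exact chkList_get _ _ _ st133 92419 st133_ok.1 k (by omega) (by rw [st133_ok.2]; omega)
  by_cases c134 : k < 92931
  · exact chkList_get _ _ _ st134 92675 st134_ok.1 k (by omega) (by rw [st134_ok.2]; omega)
  by_cases c135 : k < 93187
  · exact chkList_get _ _ _ st135 92931 st135_ok.1 k (by omega) (by rw [st135_ok.2]; omega)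
  by_cases c136 : k < 93443
  · exact chkList_get _ _ _ st136 93187 st136_ok.1 k (by omega) (by rw [st136_ok.2]; omega)
  by_cases c137 : k < 93699
  · exact chkList_get _ _ _ st137 93443 st137_ok.1 k (by omega) (by rw [st137_ok.2]; omega)
  by_cases c138 : k < 93955
  · exact chkList_get _ _ _ st138 93699 st138_ok.1 k (by omega) (by rw [st138_ok.2]; omega)
  by_cases c139 : k < 94211
  · exact chkList_get _ _ _ st139 93955 st139_ok.1 k (by omega) (by rw [st139_ok.2]; omega)
  by_cases c140 : k < 94467
  · exact chkList_get _ _ _ st140 94211 st140_ok.1 k (by omega) (by rw [st140_ok.2]; omega)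
  by_cases c141 : k < 94723
  · exact chkList_get _ _ _ st141 94467 st141_ok.1 k (by omega) (by rw [st141_ok.2]; omega)
  by_cases c142 : k < 94979
  · exact chkList_get _ _ _ st142 94723 st142_ok.1 k (by omega) (by rw [st142_ok.2]; omega)
  by_cases c143 : k < 95235
  · exact chkList_get _ _ _ st143 94979 st143_ok.1 k (by omega) (by rw [st143_ok.2]; omega)
  by_cases c144 : k < 95491
  · exact chkList_get _ _ _ st144 95235 st144_ok.1 k (by omega) (by rw [st144_ok.2]; omega)
  by_cases c145 : k < 95747
  · exact chkList_get _ _ _ st145 95491 st145_ok.1 k (by omega) (by rw [st145_ok.2]; omega)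
  by_cases c146 : k < 96003
  · exact chkList_get _ _ _ st146 95747 st146_ok.1 k (by omega) (by rw [st146_ok.2]; omega)
  by_cases c147 : k < 96259
  · exact chkList_get _ _ _ st147 96003 st147_ok.1 k (by omega) (by rw [st147_ok.2]; omega)
  by_cases c148 : k < 96515
  · exact chkList_get _ _ _ st148 96259 st148_ok.1 k (by omega) (by rw [st148_ok.2]; omega)
  by_cases c149 : k < 96771
  · exact chkList_get _ _ _ st149 96515 st149_ok.1 k (by omega) (by rw [st149_ok.2]; omega)
  by_cases c150 : k < 97027
  · exact chkList_get _ _ _ st150 96771 st150_ok.1 k (by omega) (by rw [st150_ok.2]; omega)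
  by_cases c151 : k < 97283
  · exact chkList_get _ _ _ st151 97027 st151_ok.1 k (by omega) (by rw [st151_ok.2]; omega)
  by_cases c152 : k < 97539
  · exact chkList_get _ _ _ st152 97283 st152_ok.1 k (by omega) (by rw [st152_ok.2]; omega)
  by_cases c153 : k < 97795
  · exact chkList_get _ _ _ st153 97539 st153_ok.1 k (by omega) (by rw [st153_ok.2]; omega)
  by_cases c154 : k < 98051
  · exact chkList_get _ _ _ st154 97795 st154_ok.1 k (by omega) (by rw [st154_ok.2]; omega)
  by_cases c155 : k < 98307
  · exact chkList_get _ _ _ st155 98051 st155_ok.1 k (by omega) (by rw [st155_ok.2]; omega)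
  by_cases c156 : k < 98563
  · exact chkList_get _ _ _ st156 98307 st156_ok.1 k (by omega) (by rw [st156_ok.2]; omega)
  by_cases c157 : k < 98819
  · exact chkList_get _ _ _ st157 98563 st157_ok.1 k (by omega) (by rw [st157_ok.2]; omega)
  by_cases c158 : k < 99075
  · exact chkList_get _ _ _ st158 98819 st158_ok.1 k (by omega) (by rw [st158_ok.2]; omega)
  by_cases c159 : k < 99331
  · exact chkList_get _ _ _ st159 99075 st159_ok.1 k (by omega) (by rw [st159_ok.2]; omega)
  by_cases c160 : k < 99587
  · exact chkList_get _ _ _ st160 99331 st160_ok.1 k (by omega) (by rw [st160_ok.2]; omega)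
  by_cases c161 : k < 99843
  · exact chkList_get _ _ _ st161 99587 st161_ok.1 k (by omega) (by rw [st161_ok.2]; omega)
  by_cases c162 : k < 100099
  · exact chkList_get _ _ _ st162 99843 st162_ok.1 k (by omega) (by rw [st162_ok.2]; omega)
  by_cases c163 : k < 100355
  · exact chkList_get _ _ _ st163 100099 st163_ok.1 k (by omega) (by rw [st163_ok.2]; omega)
  by_cases c164 : k < 100611
  · exact chkList_get _ _ _ st164 100355 st164_ok.1 k (by omega) (by rw [st164_ok.2]; omega)
  by_cases c165 : k < 100867
  · exact chkList_get _ _ _ st165 100611 st165_ok.1 k (by omega) (by rw [st165_ok.2]; omega)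
  by_cases c166 : k < 101123
  · exact chkList_get _ _ _ st166 100867 st166_ok.1 k (by omega) (by rw [st166_ok.2]; omega)
  by_cases c167 : k < 101379
  · exact chkList_get _ _ _ st167 101123 st167_ok.1 k (by omega) (by rw [st167_ok.2]; omega)
  by_cases c168 : k < 101635
  · exact chkList_get _ _ _ st168 101379 st168_ok.1 k (by omega) (by rw [st168_ok.2]; omega)
  by_cases c169 : k < 101891
  · exact chkList_get _ _ _ st169 101635 st169_ok.1 k (by omega) (by rw [st169_ok.2]; omega)
  by_cases c170 : k < 102147
  · exact chkList_get _ _ _ st170 101891 st170_ok.1 k (by omega) (by rw [st170_ok.2]; omega)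
  by_cases c171 : k < 102403
  · exact chkList_get _ _ _ st171 102147 st171_ok.1 k (by omega) (by rw [st171_ok.2]; omega)
  by_cases c172 : k < 102659
  · exact chkList_get _ _ _ st172 102403 st172_ok.1 k (by omega) (by rw [st172_ok.2]; omega)
  by_cases c173 : k < 102915
  · exact chkList_get _ _ _ st173 102659 st173_ok.1 k (by omega) (by rw [st173_ok.2]; omega)
  by_cases c174 : k < 103171
  · exact chkList_get _ _ _ st174 102915 st174_ok.1 k (by omega) (by rw [st174_ok.2]; omega)
  by_cases c175 : k < 103427
  · exact chkList_get _ _ _ st175 103171 st175_ok.1 k (by omega) (by rw [st175_ok.2]; omega)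
  by_cases c176 : k < 103683
  · exact chkList_get _ _ _ st176 103427 st176_ok.1 k (by omega) (by rw [st176_ok.2]; omega)
  by_cases c177 : k < 103939
  · exact chkList_get _ _ _ st177 103683 st177_ok.1 k (by omega) (by rw [st177_ok.2]; omega)
  by_cases c178 : k < 104195
  · exact chkList_get _ _ _ st178 103939 st178_ok.1 k (by omega) (by rw [st178_ok.2]; omega)
  by_cases c179 : k < 104451
  · exact chkList_get _ _ _ st179 104195 st179_ok.1 k (by omega) (by rw [st179_ok.2]; omega)
  by_cases c180 : k < 104707
  · exact chkList_get _ _ _ st180 104451 st180_ok.1 k (by omega) (by rw [st180_ok.2]; omega)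
  by_cases c181 : k < 104963
  · exact chkList_get _ _ _ st181 104707 st181_ok.1 k (by omega) (by rw [st181_ok.2]; omega)
  by_cases c182 : k < 105219
  · exact chkList_get _ _ _ st182 104963 st182_ok.1 k (by omega) (by rw [st182_ok.2]; omega)
  by_cases c183 : k < 105475
  · exact chkList_get _ _ _ st183 105219 st183_ok.1 k (by omega) (by rw [st183_ok.2]; omega)
  by_cases c184 : k < 105731
  · exact chkList_get _ _ _ st184 105475 st184_ok.1 k (by omega) (by rw [st184_ok.2]; omega)
  by_cases c185 : k < 105987
  · exact chkList_get _ _ _ st185 105731 st185_ok.1 k (by omega) (by rw [st185_ok.2]; omega)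
  by_cases c186 : k < 106243
  · exact chkList_get _ _ _ st186 105987 st186_ok.1 k (by omega) (by rw [st186_ok.2]; omega)
  by_cases c187 : k < 106499
  · exact chkList_get _ _ _ st187 106243 st187_ok.1 k (by omega) (by rw [st187_ok.2]; omega)
  by_cases c188 : k < 106755
  · exact chkList_get _ _ _ st188 106499 st188_ok.1 k (by omega) (by rw [st188_ok.2]; omega)
  by_cases c189 : k < 107011
  · exact chkList_get _ _ _ st189 106755 st189_ok.1 k (by omega) (by rw [st189_ok.2]; omega)
  by_cases c190 : k < 107267
  · exact chkList_get _ _ _ st190 107011 st190_ok.1 k (by omega) (by rw [st190_ok.2]; omega)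
  by_cases c191 : k < 107523
  · exact chkList_get _ _ _ st191 107267 st191_ok.1 k (by omega) (by rw [st191_ok.2]; omega)
  by_cases c192 : k < 107779
  · exact chkList_get _ _ _ st192 107523 st192_ok.1 k (by omega) (by rw [st192_ok.2]; omega)
  by_cases c193 : k < 108035
  · exact chkList_get _ _ _ st193 107779 st193_ok.1 k (by omega) (by rw [st193_ok.2]; omega)
  by_cases c194 : k < 108291
  · exact chkList_get _ _ _ st194 108035 st194_ok.1 k (by omega) (by rw [st194_ok.2]; omega)
  by_cases c195 : k < 108547
  · exact chkList_get _ _ _ st195 108291 st195_ok.1 k (by omega) (by rw [st195_ok.2]; omega)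
  by_cases c196 : k < 108803
  · exact chkList_get _ _ _ st196 108547 st196_ok.1 k (by omega) (by rw [st196_ok.2]; omega)
  by_cases c197 : k < 109059
  · exact chkList_get _ _ _ st197 108803 st197_ok.1 k (by omega) (by rw [st197_ok.2]; omega)
  by_cases c198 : k < 109315
  · exact chkList_get _ _ _ st198 109059 st198_ok.1 k (by omega) (by rw [st198_ok.2]; omega)
  by_cases c199 : k < 109571
  · exact chkList_get _ _ _ st199 109315 st199_ok.1 k (by omega) (by rw [st199_ok.2]; omega)
  by_cases c200 : k < 109827
  · exact chkList_get _ _ _ st200 109571 st200_ok.1 k (by omega) (by rw [st200_ok.2]; omega)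
  by_cases c201 : k < 110083
  · exact chkList_get _ _ _ st201 109827 st201_ok.1 k (by omega) (by rw [st201_ok.2]; omega)
  by_cases c202 : k < 110339
  · exact chkList_get _ _ _ st202 110083 st202_ok.1 k (by omega) (by rw [st202_ok.2]; omega)
  by_cases c203 : k < 110595
  · exact chkList_get _ _ _ st203 110339 st203_ok.1 k (by omega) (by rw [st203_ok.2]; omega)
  by_cases c204 : k < 110851
  · exact chkList_get _ _ _ st204 110595 st204_ok.1 k (by omega) (by rw [st204_ok.2]; omega)
  by_cases c205 : k < 111107
  · exact chkList_get _ _ _ st205 110851 st205_ok.1 k (by omega) (by rw [st205_ok.2]; omega)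
  by_cases c206 : k < 111363
  · exact chkList_get _ _ _ st206 111107 st206_ok.1 k (by omega) (by rw [st206_ok.2]; omega)
  by_cases c207 : k < 111619
  · exact chkList_get _ _ _ st207 111363 st207_ok.1 k (by omega) (by rw [st207_ok.2]; omega)
  by_cases c208 : k < 111875
  · exact chkList_get _ _ _ st208 111619 st208_ok.1 k (by omega) (by rw [st208_ok.2]; omega)
  by_cases c209 : k < 112131
  · exact chkList_get _ _ _ st209 111875 st209_ok.1 k (by omega) (by rw [st209_ok.2]; omega)
  by_cases c210 : k < 112387
  · exact chkList_get _ _ _ st210 112131 st210_ok.1 k (by omega) (by rw [st210_ok.2]; omega)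
  by_cases c211 : k < 112643
  · exact chkList_get _ _ _ st211 112387 st211_ok.1 k (by omega) (by rw [st211_ok.2]; omega)
  by_cases c212 : k < 112899
  · exact chkList_get _ _ _ st212 112643 st212_ok.1 k (by omega) (by rw [st212_ok.2]; omega)
  by_cases c213 : k < 113155
  · exact chkList_get _ _ _ st213 112899 st213_ok.1 k (by omega) (by rw [st213_ok.2]; omega)
  by_cases c214 : k < 113411
  · exact chkList_get _ _ _ st214 113155 st214_ok.1 k (by omega) (by rw [st214_ok.2]; omega)
  by_cases c215 : k < 113667
  · exact chkList_get _ _ _ st215 113411 st215_ok.1 k (by omega) (by rw [st215_ok.2]; omega)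
  by_cases c216 : k < 113923
  · exact chkList_get _ _ _ st216 113667 st216_ok.1 k (by omega) (by rw [st216_ok.2]; omega)
  by_cases c217 : k < 114179
  · exact chkList_get _ _ _ st217 113923 st217_ok.1 k (by omega) (by rw [st217_ok.2]; omega)
  by_cases c218 : k < 114435
  · exact chkList_get _ _ _ st218 114179 st218_ok.1 k (by omega) (by rw [st218_ok.2]; omega)
  by_cases c219 : k < 114691
  · exact chkList_get _ _ _ st219 114435 st219_ok.1 k (by omega) (by rw [st219_ok.2]; omega)
  by_cases c220 : k < 114947
  · exact chkList_get _ _ _ st220 114691 st220_ok.1 k (by omega) (by rw [st220_ok.2]; omega)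
  by_cases c221 : k < 115203
  · exact chkList_get _ _ _ st221 114947 st221_ok.1 k (by omega) (by rw [st221_ok.2]; omega)
  by_cases c222 : k < 115459
  · exact chkList_get _ _ _ st222 115203 st222_ok.1 k (by omega) (by rw [st222_ok.2]; omega)
  by_cases c223 : k < 115715
  · exact chkList_get _ _ _ st223 115459 st223_ok.1 k (by omega) (by rw [st223_ok.2]; omega)
  by_cases c224 : k < 115971
  · exact chkList_get _ _ _ st224 115715 st224_ok.1 k (by omega) (by rw [st224_ok.2]; omega)
  by_cases c225 : k < 116227
  · exact chkList_get _ _ _ st225 115971 st225_ok.1 k (by omega) (by rw [st225_ok.2]; omega)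
  by_cases c226 : k < 116483
  · exact chkList_get _ _ _ st226 116227 st226_ok.1 k (by omega) (by rw [st226_ok.2]; omega)
  by_cases c227 : k < 116739
  · exact chkList_get _ _ _ st227 116483 st227_ok.1 k (by omega) (by rw [st227_ok.2]; omega)
  by_cases c228 : k < 116995
  · exact chkList_get _ _ _ st228 116739 st228_ok.1 k (by omega) (by rw [st228_ok.2]; omega)
  by_cases c229 : k < 117251
  · exact chkList_get _ _ _ st229 116995 st229_ok.1 k (by omega) (by rw [st229_ok.2]; omega)
  by_cases c230 : k < 117507
  · exact chkList_get _ _ _ st230 117251 st230_ok.1 k (by omega) (by rw [st230_ok.2]; omega)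
  by_cases c231 : k < 117763
  · exact chkList_get _ _ _ st231 117507 st231_ok.1 k (by omega) (by rw [st231_ok.2]; omega)
  by_cases c232 : k < 118019
  · exact chkList_get _ _ _ st232 117763 st232_ok.1 k (by omega) (by rw [st232_ok.2]; omega)
  by_cases c233 : k < 118275
  · exact chkList_get _ _ _ st233 118019 st233_ok.1 k (by omega) (by rw [st233_ok.2]; omega)
  by_cases c234 : k < 118531
  · exact chkList_get _ _ _ st234 118275 st234_ok.1 k (by omega) (by rw [st234_ok.2]; omega)
  by_cases c235 : k < 118787
  · exact chkList_get _ _ _ st235 118531 st235_ok.1 k (by omega) (by rw [st235_ok.2]; omega)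
  by_cases c236 : k < 119043
  · exact chkList_get _ _ _ st236 118787 st236_ok.1 k (by omega) (by rw [st236_ok.2]; omega)
  by_cases c237 : k < 119299
  · exact chkList_get _ _ _ st237 119043 st237_ok.1 k (by omega) (by rw [st237_ok.2]; omega)
  by_cases c238 : k < 119555
  · exact chkList_get _ _ _ st238 119299 st238_ok.1 k (by omega) (by rw [st238_ok.2]; omega)
  by_cases c239 : k < 119811
  · exact chkList_get _ _ _ st239 119555 st239_ok.1 k (by omega) (by rw [st239_ok.2]; omega)
  by_cases c240 : k < 120067
  · exact chkList_get _ _ _ st240 119811 st240_ok.1 k (by omega) (by rw [st240_ok.2]; omega)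
  by_cases c241 : k < 120323
  · exact chkList_get _ _ _ st241 120067 st241_ok.1 k (by omega) (by rw [st241_ok.2]; omega)
  by_cases c242 : k < 120579
  · exact chkList_get _ _ _ st242 120323 st242_ok.1 k (by omega) (by rw [st242_ok.2]; omega)
  by_cases c243 : k < 120835
  · exact chkList_get _ _ _ st243 120579 st243_ok.1 k (by omega) (by rw [st243_ok.2]; omega)
  by_cases c244 : k < 121091
  · exact chkList_get _ _ _ st244 120835 st244_ok.1 k (by omega) (by rw [st244_ok.2]; omega)
  by_cases c245 : k < 121347
  · exact chkList_get _ _ _ st245 121091 st245_ok.1 k (by omega) (by rw [st245_ok.2]; omega)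
  by_cases c246 : k < 121603
  · exact chkList_get _ _ _ st246 121347 st246_ok.1 k (by omega) (by rw [st246_ok.2]; omega)
  by_cases c247 : k < 121859
  · exact chkList_get _ _ _ st247 121603 st247_ok.1 k (by omega) (by rw [st247_ok.2]; omega)
  by_cases c248 : k < 122115
  · exact chkList_get _ _ _ st248 121859 st248_ok.1 k (by omega) (by rw [st248_ok.2]; omega)
  by_cases c249 : k < 122371
  · exact chkList_get _ _ _ st249 122115 st249_ok.1 k (by omega) (by rw [st249_ok.2]; omega)
  by_cases c250 : k < 122627
  · exact chkList_get _ _ _ st250 122371 st250_ok.1 k (by omega) (by rw [st250_ok.2]; omega)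
  by_cases c251 : k < 122883
  · exact chkList_get _ _ _ st251 122627 st251_ok.1 k (by omega) (by rw [st251_ok.2]; omega)
  by_cases c252 : k < 123139
  · exact chkList_get _ _ _ st252 122883 st252_ok.1 k (by omega) (by rw [st252_ok.2]; omega)
  by_cases c253 : k < 123395
  · exact chkList_get _ _ _ st253 123139 st253_ok.1 k (by omega) (by rw [st253_ok.2]; omega)
  by_cases c254 : k < 123651
  · exact chkList_get _ _ _ st254 123395 st254_ok.1 k (by omega) (by rw [st254_ok.2]; omega)
  by_cases c255 : k < 123907
  · exact chkList_get _ _ _ st255 123651 st255_ok.1 k (by omega) (by rw [st255_ok.2]; omega)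
  by_cases c256 : k < 124163
  · exact chkList_get _ _ _ st256 123907 st256_ok.1 k (by omega) (by rw [st256_ok.2]; omega)
  by_cases c257 : k < 124419
  · exact chkList_get _ _ _ st257 124163 st257_ok.1 k (by omega) (by rw [st257_ok.2]; omega)
  by_cases c258 : k < 124675
  · exact chkList_get _ _ _ st258 124419 st258_ok.1 k (by omega) (by rw [st258_ok.2]; omega)
  by_cases c259 : k < 124931
  · exact chkList_get _ _ _ st259 124675 st259_ok.1 k (by omega) (by rw [st259_ok.2]; omega)
  by_cases c260 : k < 125187
  · exact chkList_get _ _ _ st260 124931 st260_ok.1 k (by omega) (by rw [st260_ok.2]; omega)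
  by_cases c261 : k < 125443
  · exact chkList_get _ _ _ st261 125187 st261_ok.1 k (by omega) (by rw [st261_ok.2]; omega)
  by_cases c262 : k < 125699
  · exact chkList_get _ _ _ st262 125443 st262_ok.1 k (by omega) (by rw [st262_ok.2]; omega)
  by_cases c263 : k < 125955
  · exact chkList_get _ _ _ st263 125699 st263_ok.1 k (by omega) (by rw [st263_ok.2]; omega)
  by_cases c264 : k < 126211
  · exact chkList_get _ _ _ st264 125955 st264_ok.1 k (by omega) (by rw [st264_ok.2]; omega)
  by_cases c265 : k < 126467
  · exact chkList_get _ _ _ st265 126211 st265_ok.1 k (by omega) (by rw [st265_ok.2]; omega)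
  by_cases c266 : k < 126723
  · exact chkList_get _ _ _ st266 126467 st266_ok.1 k (by omega) (by rw [st266_ok.2]; omega)
  by_cases c267 : k < 126979
  · exact chkList_get _ _ _ st267 126723 st267_ok.1 k (by omega) (by rw [st267_ok.2]; omega)
  by_cases c268 : k < 127235
  · exact chkList_get _ _ _ st268 126979 st268_ok.1 k (by omega) (by rw [st268_ok.2]; omega)
  by_cases c269 : k < 127491
  · exact chkList_get _ _ _ st269 127235 st269_ok.1 k (by omega) (by rw [st269_ok.2]; omega)
  by_cases c270 : k < 127747
  · exact chkList_get _ _ _ st270 127491 st270_ok.1 k (by omega) (by rw [st270_ok.2]; omega)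
  by_cases c271 : k < 128003
  · exact chkList_get _ _ _ st271 127747 st271_ok.1 k (by omega) (by rw [st271_ok.2]; omega)
  by_cases c272 : k < 128259
  · exact chkList_get _ _ _ st272 128003 st272_ok.1 k (by omega) (by rw [st272_ok.2]; omega)
  by_cases c273 : k < 128515
  · exact chkList_get _ _ _ st273 128259 st273_ok.1 k (by omega) (by rw [st273_ok.2]; omega)
  by_cases c274 : k < 128771
  · exact chkList_get _ _ _ st274 128515 st274_ok.1 k (by omega) (by rw [st274_ok.2]; omega)
  by_cases c275 : k < 129027
  · exact chkList_get _ _ _ st275 128771 st275_ok.1 k (by omega) (by rw [st275_ok.2]; omega)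
  by_cases c276 : k < 129283
  · exact chkList_get _ _ _ st276 129027 st276_ok.1 k (by omega) (by rw [st276_ok.2]; omega)
  by_cases c277 : k < 129539
  · exact chkList_get _ _ _ st277 129283 st277_ok.1 k (by omega) (by rw [st277_ok.2]; omega)
  by_cases c278 : k < 129795
  · exact chkList_get _ _ _ st278 129539 st278_ok.1 k (by omega) (by rw [st278_ok.2]; omega)
  by_cases c279 : k < 130051
  · exact chkList_get _ _ _ st279 129795 st279_ok.1 k (by omega) (by rw [st279_ok.2]; omega)
  by_cases c280 : k < 130307
  · exact chkList_get _ _ _ st280 130051 st280_ok.1 k (by omega) (by rw [st280_ok.2]; omega)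
  by_cases c281 : k < 130563
  · exact chkList_get _ _ _ st281 130307 st281_ok.1 k (by omega) (by rw [st281_ok.2]; omega)
  by_cases c282 : k < 130819
  · exact chkList_get _ _ _ st282 130563 st282_ok.1 k (by omega) (by rw [st282_ok.2]; omega)
  by_cases c283 : k < 131075
  · exact chkList_get _ _ _ st283 130819 st283_ok.1 k (by omega) (by rw [st283_ok.2]; omega)
  by_cases c284 : k < 131331
  · exact chkList_get _ _ _ st284 131075 st284_ok.1 k (by omega) (by rw [st284_ok.2]; omega)
  by_cases c285 : k < 131587
  · exact chkList_get _ _ _ st285 131331 st285_ok.1 k (by omega) (by rw [st285_ok.2]; omega)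
  by_cases c286 : k < 131843
  · exact chkList_get _ _ _ st286 131587 st286_ok.1 k (by omega) (by rw [st286_ok.2]; omega)
  by_cases c287 : k < 132099
  · exact chkList_get _ _ _ st287 131843 st287_ok.1 k (by omega) (by rw [st287_ok.2]; omega)
  by_cases c288 : k < 132355
  · exact chkList_get _ _ _ st288 132099 st288_ok.1 k (by omega) (by rw [st288_ok.2]; omega)
  by_cases c289 : k < 132611
  · exact chkList_get _ _ _ st289 132355 st289_ok.1 k (by omega) (by rw [st289_ok.2]; omega)
  by_cases c290 : k < 132867
  · exact chkList_get _ _ _ st290 132611 st290_ok.1 k (by omega) (by rw [st290_ok.2]; omega)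
  by_cases c291 : k < 133123
  · exact chkList_get _ _ _ st291 132867 st291_ok.1 k (by omega) (by rw [st291_ok.2]; omega)
  by_cases c292 : k < 133379
  · exact chkList_get _ _ _ st292 133123 st292_ok.1 k (by omega) (by rw [st292_ok.2]; omega)
  by_cases c293 : k < 133635
  · exact chkList_get _ _ _ st293 133379 st293_ok.1 k (by omega) (by rw [st293_ok.2]; omega)
  by_cases c294 : k < 133891
  · exact chkList_get _ _ _ st294 133635 st294_ok.1 k (by omega) (by rw [st294_ok.2]; omega)
  by_cases c295 : k < 134147
  · exact chkList_get _ _ _ st295 133891 st295_ok.1 k (by omega) (by rw [st295_ok.2]; omega)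
  by_cases c296 : k < 134403
  · exact chkList_get _ _ _ st296 134147 st296_ok.1 k (by omega) (by rw [st296_ok.2]; omega)
  by_cases c297 : k < 134659
  · exact chkList_get _ _ _ st297 134403 st297_ok.1 k (by omega) (by rw [st297_ok.2]; omega)
  by_cases c298 : k < 134915
  · exact chkList_get _ _ _ st298 134659 st298_ok.1 k (by omega) (by rw [st298_ok.2]; omega)
  by_cases c299 : k < 135171
  · exact chkList_get _ _ _ st299 134915 st299_ok.1 k (by omega) (by rw [st299_ok.2]; omega)
  by_cases c300 : k < 135427
  · exact chkList_get _ _ _ st300 135171 st300_ok.1 k (by omega) (by rw [st300_ok.2]; omega)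
  by_cases c301 : k < 135683
  · exact chkList_get _ _ _ st301 135427 st301_ok.1 k (by omega) (by rw [st301_ok.2]; omega)
  by_cases c302 : k < 135939
  · exact chkList_get _ _ _ st302 135683 st302_ok.1 k (by omega) (by rw [st302_ok.2]; omega)
  by_cases c303 : k < 136195
  · exact chkList_get _ _ _ st303 135939 st303_ok.1 k (by omega) (by rw [st303_ok.2]; omega)
  by_cases c304 : k < 136451
  · exact chkList_get _ _ _ st304 136195 st304_ok.1 k (by omega) (by rw [st304_ok.2]; omega)
  by_cases c305 : k < 136707
  · exact chkList_get _ _ _ st305 136451 st305_ok.1 k (by omega) (by rw [st305_ok.2]; omega)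
  by_cases c306 : k < 136963
  · exact chkList_get _ _ _ st306 136707 st306_ok.1 k (by omega) (by rw [st306_ok.2]; omega)
  by_cases c307 : k < 137219
  · exact chkList_get _ _ _ st307 136963 st307_ok.1 k (by omega) (by rw [st307_ok.2]; omega)
  by_cases c308 : k < 137475
  · exact chkList_get _ _ _ st308 137219 st308_ok.1 k (by omega) (by rw [st308_ok.2]; omega)
  by_cases c309 : k < 137731
  · exact chkList_get _ _ _ st309 137475 st309_ok.1 k (by omega) (by rw [st309_ok.2]; omega)
  by_cases c310 : k < 137987
  · exact chkList_get _ _ _ st310 137731 st310_ok.1 k (by omega) (by rw [st310_ok.2]; omega)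
  by_cases c311 : k < 138243
  · exact chkList_get _ _ _ st311 137987 st311_ok.1 k (by omega) (by rw [st311_ok.2]; omega)
  by_cases c312 : k < 138499
  · exact chkList_get _ _ _ st312 138243 st312_ok.1 k (by omega) (by rw [st312_ok.2]; omega)
  by_cases c313 : k < 138755
  · exact chkList_get _ _ _ st313 138499 st313_ok.1 k (by omega) (by rw [st313_ok.2]; omega)
  by_cases c314 : k < 139011
  · exact chkList_get _ _ _ st314 138755 st314_ok.1 k (by omega) (by rw [st314_ok.2]; omega)
  by_cases c315 : k < 139267
  · exact chkList_get _ _ _ st315 139011 st315_ok.1 k (by omega) (by rw [st315_ok.2]; omega)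
  by_cases c316 : k < 139523
  · exact chkList_get _ _ _ st316 139267 st316_ok.1 k (by omega) (by rw [st316_ok.2]; omega)
  by_cases c317 : k < 139779
  · exact chkList_get _ _ _ st317 139523 st317_ok.1 k (by omega) (by rw [st317_ok.2]; omega)
  by_cases c318 : k < 140035
  · exact chkList_get _ _ _ st318 139779 st318_ok.1 k (by omega) (by rw [st318_ok.2]; omega)
  by_cases c319 : k < 140291
  · exact chkList_get _ _ _ st319 140035 st319_ok.1 k (by omega) (by rw [st319_ok.2]; omega)
  by_cases c320 : k < 140547
  · exact chkList_get _ _ _ st320 140291 st320_ok.1 k (by omega) (by rw [st320_ok.2]; omega)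
  by_cases c321 : k < 140803
  · exact chkList_get _ _ _ st321 140547 st321_ok.1 k (by omega) (by rw [st321_ok.2]; omega)
  by_cases c322 : k < 141059
  · exact chkList_get _ _ _ st322 140803 st322_ok.1 k (by omega) (by rw [st322_ok.2]; omega)
  by_cases c323 : k < 141315
  · exact chkList_get _ _ _ st323 141059 st323_ok.1 k (by omega) (by rw [st323_ok.2]; omega)
  by_cases c324 : k < 141571
  · exact chkList_get _ _ _ st324 141315 st324_ok.1 k (by omega) (by rw [st324_ok.2]; omega)
  by_cases c325 : k < 141827
  · exact chkList_get _ _ _ st325 141571 st325_ok.1 k (by omega) (by rw [st325_ok.2]; omega)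
  by_cases c326 : k < 142083
  · exact chkList_get _ _ _ st326 141827 st326_ok.1 k (by omega) (by rw [st326_ok.2]; omega)
  by_cases c327 : k < 142339
  · exact chkList_get _ _ _ st327 142083 st327_ok.1 k (by omega) (by rw [st327_ok.2]; omega)
  by_cases c328 : k < 142595
  · exact chkList_get _ _ _ st328 142339 st328_ok.1 k (by omega) (by rw [st328_ok.2]; omega)
  by_cases c329 : k < 142851
  · exact chkList_get _ _ _ st329 142595 st329_ok.1 k (by omega) (by rw [st329_ok.2]; omega)
  by_cases c330 : k < 143107
  · exact chkList_get _ _ _ st330 142851 st330_ok.1 k (by omega) (by rw [st330_ok.2]; omega)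
  by_cases c331 : k < 143363
  · exact chkList_get _ _ _ st331 143107 st331_ok.1 k (by omega) (by rw [st331_ok.2]; omega)
  by_cases c332 : k < 143619
  · exact chkList_get _ _ _ st332 143363 st332_ok.1 k (by omega) (by rw [st332_ok.2]; omega)
  by_cases c333 : k < 143875
  · exact chkList_get _ _ _ st333 143619 st333_ok.1 k (by omega) (by rw [st333_ok.2]; omega)
  by_cases c334 : k < 144131
  · exact chkList_get _ _ _ st334 143875 st334_ok.1 k (by omega) (by rw [st334_ok.2]; omega)
  by_cases c335 : k < 144387
  · exact chkList_get _ _ _ st335 144131 st335_ok.1 k (by omega) (by rw [st335_ok.2]; omega)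
  by_cases c336 : k < 144643
  · exact chkList_get _ _ _ st336 144387 st336_ok.1 k (by omega) (by rw [st336_ok.2]; omega)
  by_cases c337 : k < 144899
  · exact chkList_get _ _ _ st337 144643 st337_ok.1 k (by omega) (by rw [st337_ok.2]; omega)
  by_cases c338 : k < 145155
  · exact chkList_get _ _ _ st338 144899 st338_ok.1 k (by omega) (by rw [st338_ok.2]; omega)
  by_cases c339 : k < 145411
  · exact chkList_get _ _ _ st339 145155 st339_ok.1 k (by omega) (by rw [st339_ok.2]; omega)
  by_cases c340 : k < 145667
  · exact chkList_get _ _ _ st340 145411 st340_ok.1 k (by omega) (by rw [st340_ok.2]; omega)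
  by_cases c341 : k < 145923
  · exact chkList_get _ _ _ st341 145667 st341_ok.1 k (by omega) (by rw [st341_ok.2]; omega)
  by_cases c342 : k < 146179
  · exact chkList_get _ _ _ st342 145923 st342_ok.1 k (by omega) (by rw [st342_ok.2]; omega)
  by_cases c343 : k < 146435
  · exact chkList_get _ _ _ st343 146179 st343_ok.1 k (by omega) (by rw [st343_ok.2]; omega)
  by_cases c344 : k < 146691
  · exact chkList_get _ _ _ st344 146435 st344_ok.1 k (by omega) (by rw [st344_ok.2]; omega)
  by_cases c345 : k < 146947
  · exact chkList_get _ _ _ st345 146691 st345_ok.1 k (by omega) (by rw [st345_ok.2]; omega)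
  by_cases c346 : k < 147203
  · exact chkList_get _ _ _ st346 146947 st346_ok.1 k (by omega) (by rw [st346_ok.2]; omega)
  by_cases c347 : k < 147459
  · exact chkList_get _ _ _ st347 147203 st347_ok.1 k (by omega) (by rw [st347_ok.2]; omega)
  by_cases c348 : k < 147715
  · exact chkList_get _ _ _ st348 147459 st348_ok.1 k (by omega) (by rw [st348_ok.2]; omega)
  by_cases c349 : k < 147971
  · exact chkList_get _ _ _ st349 147715 st349_ok.1 k (by omega) (by rw [st349_ok.2]; omega)
  by_cases c350 : k < 148227
  · exact chkList_get _ _ _ st350 147971 st350_ok.1 k (by omega) (by rw [st350_ok.2]; omega)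
  by_cases c351 : k < 148483
  · exact chkList_get _ _ _ st351 148227 st351_ok.1 k (by omega) (by rw [st351_ok.2]; omega)
  by_cases c352 : k < 148739
  · exact chkList_get _ _ _ st352 148483 st352_ok.1 k (by omega) (by rw [st352_ok.2]; omega)
  by_cases c353 : k < 148995
  · exact chkList_get _ _ _ st353 148739 st353_ok.1 k (by omega) (by rw [st353_ok.2]; omega)
  by_cases c354 : k < 149251
  · exact chkList_get _ _ _ st354 148995 st354_ok.1 k (by omega) (by rw [st354_ok.2]; omega)
  by_cases c355 : k < 149507
  · exact chkList_get _ _ _ st355 149251 st355_ok.1 k (by omega) (by rw [st355_ok.2]; omega)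
  by_cases c356 : k < 149763
  · exact chkList_get _ _ _ st356 149507 st356_ok.1 k (by omega) (by rw [st356_ok.2]; omega)
  by_cases c357 : k < 150019
  · exact chkList_get _ _ _ st357 149763 st357_ok.1 k (by omega) (by rw [st357_ok.2]; omega)
  by_cases c358 : k < 150275
  · exact chkList_get _ _ _ st358 150019 st358_ok.1 k (by omega) (by rw [st358_ok.2]; omega)
  by_cases c359 : k < 150531
  · exact chkList_get _ _ _ st359 150275 st359_ok.1 k (by omega) (by rw [st359_ok.2]; omega)
  by_cases c360 : k < 150787
  · exact chkList_get _ _ _ st360 150531 st360_ok.1 k (by omega) (by rw [st360_ok.2]; omega)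
  by_cases c361 : k < 151043
  · exact chkList_get _ _ _ st361 150787 st361_ok.1 k (by omega) (by rw [st361_ok.2]; omega)
  by_cases c362 : k < 151299
  · exact chkList_get _ _ _ st362 151043 st362_ok.1 k (by omega) (by rw [st362_ok.2]; omega)
  by_cases c363 : k < 151555
  · exact chkList_get _ _ _ st363 151299 st363_ok.1 k (by omega) (by rw [st363_ok.2]; omega)
  by_cases c364 : k < 151811
  · exact chkList_get _ _ _ st364 151555 st364_ok.1 k (by omega) (by rw [st364_ok.2]; omega)
  by_cases c365 : k < 152067
  · exact chkList_get _ _ _ st365 151811 st365_ok.1 k (by omega) (by rw [st365_ok.2]; omega)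
  by_cases c366 : k < 152323
  · exact chkList_get _ _ _ st366 152067 st366_ok.1 k (by omega) (by rw [st366_ok.2]; omega)
  by_cases c367 : k < 152579
  · exact chkList_get _ _ _ st367 152323 st367_ok.1 k (by omega) (by rw [st367_ok.2]; omega)
  by_cases c368 : k < 152835
  · exact chkList_get _ _ _ st368 152579 st368_ok.1 k (by omega) (by rw [st368_ok.2]; omega)
  by_cases c369 : k < 153091
  · exact chkList_get _ _ _ st369 152835 st369_ok.1 k (by omega) (by rw [st369_ok.2]; omega)
  by_cases c370 : k < 153347
  · exact chkList_get _ _ _ st370 153091 st370_ok.1 k (by omega) (by rw [st370_ok.2]; omega)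
  by_cases c371 : k < 153603
  · exact chkList_get _ _ _ st371 153347 st371_ok.1 k (by omega) (by rw [st371_ok.2]; omega)
  by_cases c372 : k < 153859
  · exact chkList_get _ _ _ st372 153603 st372_ok.1 k (by omega) (by rw [st372_ok.2]; omega)
  by_cases c373 : k < 154115
  · exact chkList_get _ _ _ st373 153859 st373_ok.1 k (by omega) (by rw [st373_ok.2]; omega)
  by_cases c374 : k < 154371
  · exact chkList_get _ _ _ st374 154115 st374_ok.1 k (by omega) (by rw [st374_ok.2]; omega)
  by_cases c375 : k < 154627
  · exact chkList_get _ _ _ st375 154371 st375_ok.1 k (by omega) (by rw [st375_ok.2]; omega)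
  by_cases c376 : k < 154883
  · exact chkList_get _ _ _ st376 154627 st376_ok.1 k (by omega) (by rw [st376_ok.2]; omega)
  by_cases c377 : k < 155139
  · exact chkList_get _ _ _ st377 154883 st377_ok.1 k (by omega) (by rw [st377_ok.2]; omega)
  by_cases c378 : k < 155395
  · exact chkList_get _ _ _ st378 155139 st378_ok.1 k (by omega) (by rw [st378_ok.2]; omega)
  by_cases c379 : k < 155651
  · exact chkList_get _ _ _ st379 155395 st379_ok.1 k (by omega) (by rw [st379_ok.2]; omega)
  by_cases c380 : k < 155907
  · exact chkList_get _ _ _ st380 155651 st380_ok.1 k (by omega) (by rw [st380_ok.2]; omega)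
  by_cases c381 : k < 156163
  · exact chkList_get _ _ _ st381 155907 st381_ok.1 k (by omega) (by rw [st381_ok.2]; omega)
  by_cases c382 : k < 156419
  · exact chkList_get _ _ _ st382 156163 st382_ok.1 k (by omega) (by rw [st382_ok.2]; omega)
  by_cases c383 : k < 156675
  · exact chkList_get _ _ _ st383 156419 st383_ok.1 k (by omega) (by rw [st383_ok.2]; omega)
  by_cases c384 : k < 156931
  · exact chkList_get _ _ _ st384 156675 st384_ok.1 k (by omega) (by rw [st384_ok.2]; omega)
  by_cases c385 : k < 157187
  · exact chkList_get _ _ _ st385 156931 st385_ok.1 k (by omega) (by rw [st385_ok.2]; omega)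
  by_cases c386 : k < 157443
  · exact chkList_get _ _ _ st386 157187 st386_ok.1 k (by omega) (by rw [st386_ok.2]; omega)
  by_cases c387 : k < 157699
  · exact chkList_get _ _ _ st387 157443 st387_ok.1 k (by omega) (by rw [st387_ok.2]; omega)
  by_cases c388 : k < 157955
  · exact chkList_get _ _ _ st388 157699 st388_ok.1 k (by omega) (by rw [st388_ok.2]; omega)
  by_cases c389 : k < 158211
  · exact chkList_get _ _ _ st389 157955 st389_ok.1 k (by omega) (by rw [st389_ok.2]; omega)
  by_cases c390 : k < 158467
  · exact chkList_get _ _ _ st390 158211 st390_ok.1 k (by omega) (by rw [st390_ok.2]; omega)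
  by_cases c391 : k < 158723
  · exact chkList_get _ _ _ st391 158467 st391_ok.1 k (by omega) (by rw [st391_ok.2]; omega)
  by_cases c392 : k < 158979
  · exact chkList_get _ _ _ st392 158723 st392_ok.1 k (by omega) (by rw [st392_ok.2]; omega)
  by_cases c393 : k < 159235
  · exact chkList_get _ _ _ st393 158979 st393_ok.1 k (by omega) (by rw [st393_ok.2]; omega)
  by_cases c394 : k < 159491
  · exact chkList_get _ _ _ st394 159235 st394_ok.1 k (by omega) (by rw [st394_ok.2]; omega)
  by_cases c395 : k < 159747
  · exact chkList_get _ _ _ st395 159491 st395_ok.1 k (by omega) (by rw [st395_ok.2]; omega)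
  by_cases c396 : k < 160003
  · exact chkList_get _ _ _ st396 159747 st396_ok.1 k (by omega) (by rw [st396_ok.2]; omega)
  by_cases c397 : k < 160259
  · exact chkList_get _ _ _ st397 160003 st397_ok.1 k (by omega) (by rw [st397_ok.2]; omega)
  by_cases c398 : k < 160515
  · exact chkList_get _ _ _ st398 160259 st398_ok.1 k (by omega) (by rw [st398_ok.2]; omega)
  by_cases c399 : k < 160771
  · exact chkList_get _ _ _ st399 160515 st399_ok.1 k (by omega) (by rw [st399_ok.2]; omega)
  by_cases c400 : k < 161027
  · exact chkList_get _ _ _ st400 160771 st400_ok.1 k (by omega) (by rw [st400_ok.2]; omega)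
  by_cases c401 : k < 161283
  · exact chkList_get _ _ _ st401 161027 st401_ok.1 k (by omega) (by rw [st401_ok.2]; omega)
  by_cases c402 : k < 161539
  · exact chkList_get _ _ _ st402 161283 st402_ok.1 k (by omega) (by rw [st402_ok.2]; omega)
  by_cases c403 : k < 161795
  · exact chkList_get _ _ _ st403 161539 st403_ok.1 k (by omega) (by rw [st403_ok.2]; omega)
  by_cases c404 : k < 162051
  · exact chkList_get _ _ _ st404 161795 st404_ok.1 k (by omega) (by rw [st404_ok.2]; omega)
  by_cases c405 : k < 162307
  · exact chkList_get _ _ _ st405 162051 st405_ok.1 k (by omega) (by rw [st405_ok.2]; omega)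
  by_cases c406 : k < 162563
  · exact chkList_get _ _ _ st406 162307 st406_ok.1 k (by omega) (by rw [st406_ok.2]; omega)
  by_cases c407 : k < 162819
  · exact chkList_get _ _ _ st407 162563 st407_ok.1 k (by omega) (by rw [st407_ok.2]; omega)
  by_cases c408 : k < 163075
  · exact chkList_get _ _ _ st408 162819 st408_ok.1 k (by omega) (by rw [st408_ok.2]; omega)
  by_cases c409 : k < 163331
  · exact chkList_get _ _ _ st409 163075 st409_ok.1 k (by omega) (by rw [st409_ok.2]; omega)
  by_cases c410 : k < 163587
  · exact chkList_get _ _ _ st410 163331 st410_ok.1 k (by omega) (by rw [st410_ok.2]; omega)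
  by_cases c411 : k < 163843
  · exact chkList_get _ _ _ st411 163587 st411_ok.1 k (by omega) (by rw [st411_ok.2]; omega)
  by_cases c412 : k < 164099
  · exact chkList_get _ _ _ st412 163843 st412_ok.1 k (by omega) (by rw [st412_ok.2]; omega)
  by_cases c413 : k < 164355
  · exact chkList_get _ _ _ st413 164099 st413_ok.1 k (by omega) (by rw [st413_ok.2]; omega)
  by_cases c414 : k < 164611
  · exact chkList_get _ _ _ st414 164355 st414_ok.1 k (by omega) (by rw [st414_ok.2]; omega)
  by_cases c415 : k < 164867
  · exact chkList_get _ _ _ st415 164611 st415_ok.1 k (by omega) (by rw [st415_ok.2]; omega)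
  by_cases c416 : k < 165123
  · exact chkList_get _ _ _ st416 164867 st416_ok.1 k (by omega) (by rw [st416_ok.2]; omega)
  by_cases c417 : k < 165379
  · exact chkList_get _ _ _ st417 165123 st417_ok.1 k (by omega) (by rw [st417_ok.2]; omega)
  by_cases c418 : k < 165635
  · exact chkList_get _ _ _ st418 165379 st418_ok.1 k (by omega) (by rw [st418_ok.2]; omega)
  by_cases c419 : k < 165891
  · exact chkList_get _ _ _ st419 165635 st419_ok.1 k (by omega) (by rw [st419_ok.2]; omega)
  by_cases c420 : k < 166147
  · exact chkList_get _ _ _ st420 165891 st420_ok.1 k (by omega) (by rw [st420_ok.2]; omega)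
  by_cases c421 : k < 166403
  · exact chkList_get _ _ _ st421 166147 st421_ok.1 k (by omega) (by rw [st421_ok.2]; omega)
  by_cases c422 : k < 166659
  · exact chkList_get _ _ _ st422 166403 st422_ok.1 k (by omega) (by rw [st422_ok.2]; omega)
  by_cases c423 : k < 166915
  · exact chkList_get _ _ _ st423 166659 st423_ok.1 k (by omega) (by rw [st423_ok.2]; omega)
  by_cases c424 : k < 167171
  · exact chkList_get _ _ _ st424 166915 st424_ok.1 k (by omega) (by rw [st424_ok.2]; omega)
  by_cases c425 : k < 167427
  · exact chkList_get _ _ _ st425 167171 st425_ok.1 k (by omega) (by rw [st425_ok.2]; omega)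
  by_cases c426 : k < 167683
  · exact chkList_get _ _ _ st426 167427 st426_ok.1 k (by omega) (by rw [st426_ok.2]; omega)
  by_cases c427 : k < 167939
  · exact chkList_get _ _ _ st427 167683 st427_ok.1 k (by omega) (by rw [st427_ok.2]; omega)
  by_cases c428 : k < 168195
  · exact chkList_get _ _ _ st428 167939 st428_ok.1 k (by omega) (by rw [st428_ok.2]; omega)
  by_cases c429 : k < 168451
  · exact chkList_get _ _ _ st429 168195 st429_ok.1 k (by omega) (by rw [st429_ok.2]; omega)
  by_cases c430 : k < 168707
  · exact chkList_get _ _ _ st430 168451 st430_ok.1 k (by omega) (by rw [st430_ok.2]; omega)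
  by_cases c431 : k < 168963
  · exact chkList_get _ _ _ st431 168707 st431_ok.1 k (by omega) (by rw [st431_ok.2]; omega)
  by_cases c432 : k < 169219
  · exact chkList_get _ _ _ st432 168963 st432_ok.1 k (by omega) (by rw [st432_ok.2]; omega)
  by_cases c433 : k < 169475
  · exact chkList_get _ _ _ st433 169219 st433_ok.1 k (by omega) (by rw [st433_ok.2]; omega)
  by_cases c434 : k < 169731
  · exact chkList_get _ _ _ st434 169475 st434_ok.1 k (by omega) (by rw [st434_ok.2]; omega)
  by_cases c435 : k < 169987
  · exact chkList_get _ _ _ st435 169731 st435_ok.1 k (by omega) (by rw [st435_ok.2]; omega)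
  by_cases c436 : k < 170243
  · exact chkList_get _ _ _ st436 169987 st436_ok.1 k (by omega) (by rw [st436_ok.2]; omega)
  by_cases c437 : k < 170499
  · exact chkList_get _ _ _ st437 170243 st437_ok.1 k (by omega) (by rw [st437_ok.2]; omega)
  by_cases c438 : k < 170755
  · exact chkList_get _ _ _ st438 170499 st438_ok.1 k (by omega) (by rw [st438_ok.2]; omega)
  by_cases c439 : k < 171011
  · exact chkList_get _ _ _ st439 170755 st439_ok.1 k (by omega) (by rw [st439_ok.2]; omega)
  by_cases c440 : k < 171267
  · exact chkList_get _ _ _ st440 171011 st440_ok.1 k (by omega) (by rw [st440_ok.2]; omega)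
  by_cases c441 : k < 171523
  · exact chkList_get _ _ _ st441 171267 st441_ok.1 k (by omega) (by rw [st441_ok.2]; omega)
  by_cases c442 : k < 171779
  · exact chkList_get _ _ _ st442 171523 st442_ok.1 k (by omega) (by rw [st442_ok.2]; omega)
  by_cases c443 : k < 172035
  · exact chkList_get _ _ _ st443 171779 st443_ok.1 k (by omega) (by rw [st443_ok.2]; omega)
  by_cases c444 : k < 172291
  · exact chkList_get _ _ _ st444 172035 st444_ok.1 k (by omega) (by rw [st444_ok.2]; omega)
  by_cases c445 : k < 172547
  · exact chkList_get _ _ _ st445 172291 st445_ok.1 k (by omega) (by rw [st445_ok.2]; omega)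
  by_cases c446 : k < 172803
  · exact chkList_get _ _ _ st446 172547 st446_ok.1 k (by omega) (by rw [st446_ok.2]; omega)
  by_cases c447 : k < 173059
  · exact chkList_get _ _ _ st447 172803 st447_ok.1 k (by omega) (by rw [st447_ok.2]; omega)
  by_cases c448 : k < 173315
  · exact chkList_get _ _ _ st448 173059 st448_ok.1 k (by omega) (by rw [st448_ok.2]; omega)
  by_cases c449 : k < 173571
  · exact chkList_get _ _ _ st449 173315 st449_ok.1 k (by omega) (by rw [st449_ok.2]; omega)
  by_cases c450 : k < 173827
  · exact chkList_get _ _ _ st450 173571 st450_ok.1 k (by omega) (by rw [st450_ok.2]; omega)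
  by_cases c451 : k < 174083
  · exact chkList_get _ _ _ st451 173827 st451_ok.1 k (by omega) (by rw [st451_ok.2]; omega)
  by_cases c452 : k < 174339
  · exact chkList_get _ _ _ st452 174083 st452_ok.1 k (by omega) (by rw [st452_ok.2]; omega)
  by_cases c453 : k < 174595
  · exact chkList_get _ _ _ st453 174339 st453_ok.1 k (by omega) (by rw [st453_ok.2]; omega)
  by_cases c454 : k < 174851
  · exact chkList_get _ _ _ st454 174595 st454_ok.1 k (by omega) (by rw [st454_ok.2]; omega)
  by_cases c455 : k < 175107
  · exact chkList_get _ _ _ st455 174851 st455_ok.1 k (by omega) (by rw [st455_ok.2]; omega)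
  by_cases c456 : k < 175363
  · exact chkList_get _ _ _ st456 175107 st456_ok.1 k (by omega) (by rw [st456_ok.2]; omega)
  by_cases c457 : k < 175619
  · exact chkList_get _ _ _ st457 175363 st457_ok.1 k (by omega) (by rw [st457_ok.2]; omega)
  by_cases c458 : k < 175875
  · exact chkList_get _ _ _ st458 175619 st458_ok.1 k (by omega) (by rw [st458_ok.2]; omega)
  by_cases c459 : k < 176131
  · exact chkList_get _ _ _ st459 175875 st459_ok.1 k (by omega) (by rw [st459_ok.2]; omega)
  by_cases c460 : k < 176387
  · exact chkList_get _ _ _ st460 176131 st460_ok.1 k (by omega) (by rw [st460_ok.2]; omega)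
  by_cases c461 : k < 176643
  · exact chkList_get _ _ _ st461 176387 st461_ok.1 k (by omega) (by rw [st461_ok.2]; omega)
  by_cases c462 : k < 176899
  · exact chkList_get _ _ _ st462 176643 st462_ok.1 k (by omega) (by rw [st462_ok.2]; omega)
  by_cases c463 : k < 177155
  · exact chkList_get _ _ _ st463 176899 st463_ok.1 k (by omega) (by rw [st463_ok.2]; omega)
  by_cases c464 : k < 177411
  · exact chkList_get _ _ _ st464 177155 st464_ok.1 k (by omega) (by rw [st464_ok.2]; omega)
  by_cases c465 : k < 177667
  · exact chkList_get _ _ _ st465 177411 st465_ok.1 k (by omega) (by rw [st465_ok.2]; omega)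
  by_cases c466 : k < 177923
  · exact chkList_get _ _ _ st466 177667 st466_ok.1 k (by omega) (by rw [st466_ok.2]; omega)
  by_cases c467 : k < 178179
  · exact chkList_get _ _ _ st467 177923 st467_ok.1 k (by omega) (by rw [st467_ok.2]; omega)
  by_cases c468 : k < 178435
  · exact chkList_get _ _ _ st468 178179 st468_ok.1 k (by omega) (by rw [st468_ok.2]; omega)
  by_cases c469 : k < 178691
  · exact chkList_get _ _ _ st469 178435 st469_ok.1 k (by omega) (by rw [st469_ok.2]; omega)
  by_cases c470 : k < 178947
  · exact chkList_get _ _ _ st470 178691 st470_ok.1 k (by omega) (by rw [st470_ok.2]; omega)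
  by_cases c471 : k < 179203
  · exact chkList_get _ _ _ st471 178947 st471_ok.1 k (by omega) (by rw [st471_ok.2]; omega)
  by_cases c472 : k < 179459
  · exact chkList_get _ _ _ st472 179203 st472_ok.1 k (by omega) (by rw [st472_ok.2]; omega)
  by_cases c473 : k < 179715
  · exact chkList_get _ _ _ st473 179459 st473_ok.1 k (by omega) (by rw [st473_ok.2]; omega)
  by_cases c474 : k < 179971
  · exact chkList_get _ _ _ st474 179715 st474_ok.1 k (by omega) (by rw [st474_ok.2]; omega)
  by_cases c475 : k < 180227
  · exact chkList_get _ _ _ st475 179971 st475_ok.1 k (by omega) (by rw [st475_ok.2]; omega)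
  by_cases c476 : k < 180483
  · exact chkList_get _ _ _ st476 180227 st476_ok.1 k (by omega) (by rw [st476_ok.2]; omega)
  by_cases c477 : k < 180739
  · exact chkList_get _ _ _ st477 180483 st477_ok.1 k (by omega) (by rw [st477_ok.2]; omega)
  by_cases c478 : k < 180995
  · exact chkList_get _ _ _ st478 180739 st478_ok.1 k (by omega) (by rw [st478_ok.2]; omega)
  by_cases c479 : k < 181251
  · exact chkList_get _ _ _ st479 180995 st479_ok.1 k (by omega) (by rw [st479_ok.2]; omega)
  by_cases c480 : k < 181507
  · exact chkList_get _ _ _ st480 181251 st480_ok.1 k (by omega) (by rw [st480_ok.2]; omega)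
  by_cases c481 : k < 181763
  · exact chkList_get _ _ _ st481 181507 st481_ok.1 k (by omega) (by rw [st481_ok.2]; omega)
  by_cases c482 : k < 182019
  · exact chkList_get _ _ _ st482 181763 st482_ok.1 k (by omega) (by rw [st482_ok.2]; omega)
  by_cases c483 : k < 182275
  · exact chkList_get _ _ _ st483 182019 st483_ok.1 k (by omega) (by rw [st483_ok.2]; omega)
  by_cases c484 : k < 182531
  · exact chkList_get _ _ _ st484 182275 st484_ok.1 k (by omega) (by rw [st484_ok.2]; omega)
  by_cases c485 : k < 182787
  · exact chkList_get _ _ _ st485 182531 st485_ok.1 k (by omega) (by rw [st485_ok.2]; omega)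
  by_cases c486 : k < 183043
  · exact chkList_get _ _ _ st486 182787 st486_ok.1 k (by omega) (by rw [st486_ok.2]; omega)
  by_cases c487 : k < 183299
  · exact chkList_get _ _ _ st487 183043 st487_ok.1 k (by omega) (by rw [st487_ok.2]; omega)
  by_cases c488 : k < 183555
  · exact chkList_get _ _ _ st488 183299 st488_ok.1 k (by omega) (by rw [st488_ok.2]; omega)
  by_cases c489 : k < 183811
  · exact chkList_get _ _ _ st489 183555 st489_ok.1 k (by omega) (by rw [st489_ok.2]; omega)
  by_cases c490 : k < 184067
  · exact chkList_get _ _ _ st490 183811 st490_ok.1 k (by omega) (by rw [st490_ok.2]; omega)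
  by_cases c491 : k < 184323
  · exact chkList_get _ _ _ st491 184067 st491_ok.1 k (by omega) (by rw [st491_ok.2]; omega)
  by_cases c492 : k < 184579
  · exact chkList_get _ _ _ st492 184323 st492_ok.1 k (by omega) (by rw [st492_ok.2]; omega)
  by_cases c493 : k < 184835
  · exact chkList_get _ _ _ st493 184579 st493_ok.1 k (by omega) (by rw [st493_ok.2]; omega)
  by_cases c494 : k < 185091
  · exact chkList_get _ _ _ st494 184835 st494_ok.1 k (by omega) (by rw [st494_ok.2]; omega)
  by_cases c495 : k < 185347
  · exact chkList_get _ _ _ st495 185091 st495_ok.1 k (by omega) (by rw [st495_ok.2]; omega)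
  by_cases c496 : k < 185603
  · exact chkList_get _ _ _ st496 185347 st496_ok.1 k (by omega) (by rw [st496_ok.2]; omega)
  by_cases c497 : k < 185859
  · exact chkList_get _ _ _ st497 185603 st497_ok.1 k (by omega) (by rw [st497_ok.2]; omega)
  by_cases c498 : k < 186115
  · exact chkList_get _ _ _ st498 185859 st498_ok.1 k (by omega) (by rw [st498_ok.2]; omega)
  by_cases c499 : k < 186371
  · exact chkList_get _ _ _ st499 186115 st499_ok.1 k (by omega) (by rw [st499_ok.2]; omega)
  by_cases c500 : k < 186627
  · exact chkList_get _ _ _ st500 186371 st500_ok.1 k (by omega) (by rw [st500_ok.2]; omega)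
  by_cases c501 : k < 186883
  · exact chkList_get _ _ _ st501 186627 st501_ok.1 k (by omega) (by rw [st501_ok.2]; omega)
  by_cases c502 : k < 187139
  · exact chkList_get _ _ _ st502 186883 st502_ok.1 k (by omega) (by rw [st502_ok.2]; omega)
  by_cases c503 : k < 187395
  · exact chkList_get _ _ _ st503 187139 st503_ok.1 k (by omega) (by rw [st503_ok.2]; omega)
  by_cases c504 : k < 187651
  · exact chkList_get _ _ _ st504 187395 st504_ok.1 k (by omega) (by rw [st504_ok.2]; omega)
  by_cases c505 : k < 187907
  · exact chkList_get _ _ _ st505 187651 st505_ok.1 k (by omega) (by rw [st505_ok.2]; omega)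
  by_cases c506 : k < 188163
  · exact chkList_get _ _ _ st506 187907 st506_ok.1 k (by omega) (by rw [st506_ok.2]; omega)
  by_cases c507 : k < 188419
  · exact chkList_get _ _ _ st507 188163 st507_ok.1 k (by omega) (by rw [st507_ok.2]; omega)
  by_cases c508 : k < 188675
  · exact chkList_get _ _ _ st508 188419 st508_ok.1 k (by omega) (by rw [st508_ok.2]; omega)
  by_cases c509 : k < 188931
  · exact chkList_get _ _ _ st509 188675 st509_ok.1 k (by omega) (by rw [st509_ok.2]; omega)
  by_cases c510 : k < 189187
  · exact chkList_get _ _ _ st510 188931 st510_ok.1 k (by omega) (by rw [st510_ok.2]; omega)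
  by_cases c511 : k < 189443
  · exact chkList_get _ _ _ st511 189187 st511_ok.1 k (by omega) (by rw [st511_ok.2]; omega)
  by_cases c512 : k < 189699
  · exact chkList_get _ _ _ st512 189443 st512_ok.1 k (by omega) (by rw [st512_ok.2]; omega)
  by_cases c513 : k < 189955
  · exact chkList_get _ _ _ st513 189699 st513_ok.1 k (by omega) (by rw [st513_ok.2]; omega)
  by_cases c514 : k < 190211
  · exact chkList_get _ _ _ st514 189955 st514_ok.1 k (by omega) (by rw [st514_ok.2]; omega)
  by_cases c515 : k < 190467
  · exact chkList_get _ _ _ st515 190211 st515_ok.1 k (by omega) (by rw [st515_ok.2]; omega)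
  by_cases c516 : k < 190723
  · exact chkList_get _ _ _ st516 190467 st516_ok.1 k (by omega) (by rw [st516_ok.2]; omega)
  by_cases c517 : k < 190979
  · exact chkList_get _ _ _ st517 190723 st517_ok.1 k (by omega) (by rw [st517_ok.2]; omega)
  by_cases c518 : k < 191235
  · exact chkList_get _ _ _ st518 190979 st518_ok.1 k (by omega) (by rw [st518_ok.2]; omega)
  by_cases c519 : k < 191491
  · exact chkList_get _ _ _ st519 191235 st519_ok.1 k (by omega) (by rw [st519_ok.2]; omega)
  by_cases c520 : k < 191747
  · exact chkList_get _ _ _ st520 191491 st520_ok.1 k (by omega) (by rw [st520_ok.2]; omega)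
  by_cases c521 : k < 192003
  · exact chkList_get _ _ _ st521 191747 st521_ok.1 k (by omega) (by rw [st521_ok.2]; omega)
  by_cases c522 : k < 192259
  · exact chkList_get _ _ _ st522 192003 st522_ok.1 k (by omega) (by rw [st522_ok.2]; omega)
  by_cases c523 : k < 192515
  · exact chkList_get _ _ _ st523 192259 st523_ok.1 k (by omega) (by rw [st523_ok.2]; omega)
  by_cases c524 : k < 192771
  · exact chkList_get _ _ _ st524 192515 st524_ok.1 k (by omega) (by rw [st524_ok.2]; omega)
  by_cases c525 : k < 193027
  · exact chkList_get _ _ _ st525 192771 st525_ok.1 k (by omega) (by rw [st525_ok.2]; omega)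
  by_cases c526 : k < 193283
  · exact chkList_get _ _ _ st526 193027 st526_ok.1 k (by omega) (by rw [st526_ok.2]; omega)
  by_cases c527 : k < 193539
  · exact chkList_get _ _ _ st527 193283 st527_ok.1 k (by omega) (by rw [st527_ok.2]; omega)
  by_cases c528 : k < 193795
  · exact chkList_get _ _ _ st528 193539 st528_ok.1 k (by omega) (by rw [st528_ok.2]; omega)
  by_cases c529 : k < 194051
  · exact chkList_get _ _ _ st529 193795 st529_ok.1 k (by omega) (by rw [st529_ok.2]; omega)
  by_cases c530 : k < 194307
  · exact chkList_get _ _ _ st530 194051 st530_ok.1 k (by omega) (by rw [st530_ok.2]; omega)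
  by_cases c531 : k < 194563
  · exact chkList_get _ _ _ st531 194307 st531_ok.1 k (by omega) (by rw [st531_ok.2]; omega)
  by_cases c532 : k < 194819
  · exact chkList_get _ _ _ st532 194563 st532_ok.1 k (by omega) (by rw [st532_ok.2]; omega)
  by_cases c533 : k < 195075
  · exact chkList_get _ _ _ st533 194819 st533_ok.1 k (by omega) (by rw [st533_ok.2]; omega)
  by_cases c534 : k < 195331
  · exact chkList_get _ _ _ st534 195075 st534_ok.1 k (by omega) (by rw [st534_ok.2]; omega)
  by_cases c535 : k < 195587
  · exact chkList_get _ _ _ st535 195331 st535_ok.1 k (by omega) (by rw [st535_ok.2]; omega)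
  by_cases c536 : k < 195843
  · exact chkList_get _ _ _ st536 195587 st536_ok.1 k (by omega) (by rw [st536_ok.2]; omega)
  by_cases c537 : k < 196099
  · exact chkList_get _ _ _ st537 195843 st537_ok.1 k (by omega) (by rw [st537_ok.2]; omega)
  by_cases c538 : k < 196355
  · exact chkList_get _ _ _ st538 196099 st538_ok.1 k (by omega) (by rw [st538_ok.2]; omega)
  by_cases c539 : k < 196611
  · exact chkList_get _ _ _ st539 196355 st539_ok.1 k (by omega) (by rw [st539_ok.2]; omega)
  by_cases c540 : k < 196867
  · exact chkList_get _ _ _ st540 196611 st540_ok.1 k (by omega) (by rw [st540_ok.2]; omega)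
  by_cases c541 : k < 197123
  · exact chkList_get _ _ _ st541 196867 st541_ok.1 k (by omega) (by rw [st541_ok.2]; omega)
  by_cases c542 : k < 197379
  · exact chkList_get _ _ _ st542 197123 st542_ok.1 k (by omega) (by rw [st542_ok.2]; omega)
  by_cases c543 : k < 197635
  · exact chkList_get _ _ _ st543 197379 st543_ok.1 k (by omega) (by rw [st543_ok.2]; omega)
  by_cases c544 : k < 197891
  · exact chkList_get _ _ _ st544 197635 st544_ok.1 k (by omega) (by rw [st544_ok.2]; omega)
  by_cases c545 : k < 198147
  · exact chkList_get _ _ _ st545 197891 st545_ok.1 k (by omega) (by rw [st545_ok.2]; omega)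
  by_cases c546 : k < 198403
  · exact chkList_get _ _ _ st546 198147 st546_ok.1 k (by omega) (by rw [st546_ok.2]; omega)
  by_cases c547 : k < 198659
  · exact chkList_get _ _ _ st547 198403 st547_ok.1 k (by omega) (by rw [st547_ok.2]; omega)
  by_cases c548 : k < 198915
  · exact chkList_get _ _ _ st548 198659 st548_ok.1 k (by omega) (by rw [st548_ok.2]; omega)
  by_cases c549 : k < 199171
  · exact chkList_get _ _ _ st549 198915 st549_ok.1 k (by omega) (by rw [st549_ok.2]; omega)
  by_cases c550 : k < 199427
  · exact chkList_get _ _ _ st550 199171 st550_ok.1 k (by omega) (by rw [st550_ok.2]; omega)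
  by_cases c551 : k < 199683
  · exact chkList_get _ _ _ st551 199427 st551_ok.1 k (by omega) (by rw [st551_ok.2]; omega)
  by_cases c552 : k < 199939
  · exact chkList_get _ _ _ st552 199683 st552_ok.1 k (by omega) (by rw [st552_ok.2]; omega)
  by_cases c553 : k < 200195
  · exact chkList_get _ _ _ st553 199939 st553_ok.1 k (by omega) (by rw [st553_ok.2]; omega)
  by_cases c554 : k < 200451
  · exact chkList_get _ _ _ st554 200195 st554_ok.1 k (by omega) (by rw [st554_ok.2]; omega)
  by_cases c555 : k < 200707
  · exact chkList_get _ _ _ st555 200451 st555_ok.1 k (by omega) (by rw [st555_ok.2]; omega)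
  by_cases c556 : k < 200963
  · exact chkList_get _ _ _ st556 200707 st556_ok.1 k (by omega) (by rw [st556_ok.2]; omega)
  by_cases c557 : k < 201219
  · exact chkList_get _ _ _ st557 200963 st557_ok.1 k (by omega) (by rw [st557_ok.2]; omega)
  by_cases c558 : k < 201475
  · exact chkList_get _ _ _ st558 201219 st558_ok.1 k (by omega) (by rw [st558_ok.2]; omega)
  by_cases c559 : k < 201731
  · exact chkList_get _ _ _ st559 201475 st559_ok.1 k (by omega) (by rw [st559_ok.2]; omega)
  by_cases c560 : k < 201987
  · exact chkList_get _ _ _ st560 201731 st560_ok.1 k (by omega) (by rw [st560_ok.2]; omega)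
  by_cases c561 : k < 202243
  · exact chkList_get _ _ _ st561 201987 st561_ok.1 k (by omega) (by rw [st561_ok.2]; omega)
  by_cases c562 : k < 202499
  · exact chkList_get _ _ _ st562 202243 st562_ok.1 k (by omega) (by rw [st562_ok.2]; omega)
  by_cases c563 : k < 202755
  · exact chkList_get _ _ _ st563 202499 st563_ok.1 k (by omega) (by rw [st563_ok.2]; omega)
  by_cases c564 : k < 203011
  · exact chkList_get _ _ _ st564 202755 st564_ok.1 k (by omega) (by rw [st564_ok.2]; omega)
  by_cases c565 : k < 203267
  · exact chkList_get _ _ _ st565 203011 st565_ok.1 k (by omega) (by rw [st565_ok.2]; omega)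
  by_cases c566 : k < 203523
  · exact chkList_get _ _ _ st566 203267 st566_ok.1 k (by omega) (by rw [st566_ok.2]; omega)
  by_cases c567 : k < 203779
  · exact chkList_get _ _ _ st567 203523 st567_ok.1 k (by omega) (by rw [st567_ok.2]; omega)
  by_cases c568 : k < 204035
  · exact chkList_get _ _ _ st568 203779 st568_ok.1 k (by omega) (by rw [st568_ok.2]; omega)
  by_cases c569 : k < 204291
  · exact chkList_get _ _ _ st569 204035 st569_ok.1 k (by omega) (by rw [st569_ok.2]; omega)
  by_cases c570 : k < 204547
  · exact chkList_get _ _ _ st570 204291 st570_ok.1 k (by omega) (by rw [st570_ok.2]; omega)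
  by_cases c571 : k < 204803
  · exact chkList_get _ _ _ st571 204547 st571_ok.1 k (by omega) (by rw [st571_ok.2]; omega)
  by_cases c572 : k < 205059
  · exact chkList_get _ _ _ st572 204803 st572_ok.1 k (by omega) (by rw [st572_ok.2]; omega)
  by_cases c573 : k < 205195
  · exact chkList_get _ _ _ st573 205059 st573_ok.1 k (by omega) (by rw [st573_ok.2]; omega)
  omega

end H29.CosetCert.HeLvl0
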