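import Cfsg.Agent.H29.CosetCert.HeOrder.L2

/-! Certificate data for the order of He, produced outside Lean and checked here. -/

set_option autoImplicit false
set_option maxRecDepth 16000
set_option Elab.async false

namespace H29.CosetCert.HeLvl2

open H29.CosetCert

/-- Steps. -/
noncomputable def st0 : List ℕ :=
  [13,
  14,
  15,
  0xb00001000020000000002,
  0xd00001000020000000004,
  0x20000000002000000000f00002000030000000005,
  0x2000020001100001000020000100001,
  0x4000040001700001000020000200000,
  0x4000150000400002000010000200004,
  0x800006000040000800006000040000200013000030001700003000070000200006,
  0x8000060001b0000400002000000000d0000f0000100013000030001500006000040000c000020000200007,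
  0x6000060001900001000020000300001,
  0x8000080002100001000020000400000]

theorem st0_ok : chkList lvl.F lvl.R lvl.S st0 5 = true ∧ st0.length = 13 := by
  decide +kernel

end H29.CosetCert.HeLvl2
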