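import Cfsg.Agent.H29.CosetCert.HeOrder.L3

/-! Certificate data for the order of He, produced outside Lean and checked here. -/

set_option autoImplicit false
set_option maxRecDepth 16000
set_option Elab.async false

namespace H29.CosetCert.HeLvl3

open H29.CosetCert

/-- Steps. -/
noncomputable def st0 : List ℕ :=
  [8,
  9,
  0x90000100003000000000100001,
  0x20000d0000300003000000000200000,
  0x40000f0000500003000000000300001,
  0x6000110000700003000000000400000,
  0x60000400002000000000b000010000300005000070001300009000010000400003]

theorem st0_ok : chkList lvl.F lvl.R lvl.S st0 4 = true ∧ st0.length = 7 := by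
  decide +kernel

end H29.CosetCert.HeLvl3
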