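import Cfsg.Agent.H29.CosetCert.HeOrder.Slp
import Cfsg.Agent.H29.CosetCert.He.Table

/-! Certificate data for the order of He, produced outside Lean and checked here. -/

set_option autoImplicit false
set_option maxRecDepth 16000
set_option Elab.async false

namespace H29.CosetCert.HeSlp

open H29.CosetCert

theorem entry4 : slp.entryOK HeData.T 2058 4 = true := by decide +kernel

theorem entry12 : slp.entryOK HeData.T 2058 12 = true := by decide +kernel

theorem entry16 : slp.entryOK HeData.T 2058 16 = true := by decide +kernel

theorem entry18 : slp.entryOK HeData.T 2058 18 = true := by decide +kernel

theorem entry22 : slp.entryOK HeData.T 2058 22 = true := by decide +kernel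

theorem entry26 : slp.entryOK HeData.T 2058 26 = true := by decide +kernel

theorem entry29 : slp.entryOK HeData.T 2058 29 = true := by decide +kernel

theorem entry39 : slp.entryOK HeData.T 2058 39 = true := by decide +kernel

theorem entry40 : slp.entryOK HeData.T 2058 40 = true := by decide +kernel

theorem entry44 : slp.entryOK HeData.T 2058 44 = true := by decide +kernel

theorem entry46 : slp.entryOK HeData.T 2058 46 = true := by decide +kernel

theorem entry48 : slp.entryOK HeData.T 2058 48 = true := by decide +kernel

theorem entry52 : slp.entryOK HeData.T 2058 52 = true := by decide +kernel

end H29.CosetCert.HeSlp
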