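import Cfsg.Agent.H29.CosetCert.HeOrder.Slp
import Cfsg.Agent.H29.CosetCert.He.Table

/-! Certificate data for the order of He, produced outside Lean and checked here. -/

set_option autoImplicit false
set_option maxRecDepth 16000
set_option Elab.async false

namespace H29.CosetCert.HeSlp

open H29.CosetCert

theorem entry0 : slp.entryOK HeData.T 2058 0 = true := by decide +kernel

theorem entry1 : slp.entryOK HeData.T 2058 1 = true := by decide +kernel

theorem entry5 : slp.entryOK HeData.T 2058 5 = true := by decide +kernel

theorem entry7 : slp.entryOK HeData.T 2058 7 = true := by decide +kernel

theorem entry9 : slp.entryOK HeData.T 2058 9 = true := by decide +kernel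

theorem entry13 : slp.entryOK HeData.T 2058 13 = true := by decide +kernel

theorem entry21 : slp.entryOK HeData.T 2058 21 = true := by decide +kernel

theorem entry23 : slp.entryOK HeData.T 2058 23 = true := by decide +kernel

theorem entry25 : slp.entryOK HeData.T 2058 25 = true := by decide +kernel

theorem entry34 : slp.entryOK HeData.T 2058 34 = true := by decide +kernel

theorem entry41 : slp.entryOK HeData.T 2058 41 = true := by decide +kernel

theorem entry45 : slp.entryOK HeData.T 2058 45 = true := by decide +kernel

theorem entry47 : slp.entryOK HeData.T 2058 47 = true := by decide +kernel

theorem entry51 : slp.entryOK HeData.T 2058 51 = true := by decide +kernel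

end H29.CosetCert.HeSlp
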