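import Cfsg.Agent.H29.CosetCert.HeOrder.Slp
import Cfsg.Agent.H29.CosetCert.He.Table

/-! Certificate data for the order of He, produced outside Lean and checked here. -/

set_option autoImplicit false
set_option maxRecDepth 16000
set_option Elab.async false

namespace H29.CosetCert.HeSlp

open H29.CosetCert

theorem entry2 : slp.entryOK HeData.T 2058 2 = true := by decide +kernel

theorem entry6 : slp.entryOK HeData.T 2058 6 = true := by decide +kernel

theorem entry8 : slp.entryOK HeData.T 2058 8 = true := by decide +kernel

theorem entry10 : slp.entryOK HeData.T 2058 10 = true := by decide +kernel

theorem entry14 : slp.entryOK HeData.T 2058 14 = true := by decide +kernel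

theorem entry24 : slp.entryOK HeData.T 2058 24 = true := by decide +kernel

theorem entry27 : slp.entryOK HeData.T 2058 27 = true := by decide +kernel

theorem entry30 : slp.entryOK HeData.T 2058 30 = true := by decide +kernel

theorem entry31 : slp.entryOK HeData.T 2058 31 = true := by decide +kernel

theorem entry33 : slp.entryOK HeData.T 2058 33 = true := by decide +kernel

theorem entry35 : slp.entryOK HeData.T 2058 35 = true := by decide +kernel

theorem entry42 : slp.entryOK HeData.T 2058 42 = true := by decide +kernel

theorem entry49 : slp.entryOK HeData.T 2058 49 = true := by decide +kernel

theorem entry53 : slp.entryOK HeData.T 2058 53 = true := by decide +kernel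

end H29.CosetCert.HeSlp
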