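import Cfsg.Agent.H29.CosetCert.HeOrder.Slp

/-! Certificate data for the order of He, produced outside Lean and checked here. -/

set_option autoImplicit false
set_option maxRecDepth 16000
set_option Elab.async false

namespace H29.CosetCert.HeSlp

open H29.CosetCert

theorem chain_ok : chainOK slp 2058 chain = true := by decide +kernel

theorem items_ok : normOK slp 2058 items [elt] = true := by decide +kernel

theorem pow_ok : allIn (fun c => runR slp.tbl (List.replicate 7 elt) c == c) 0 2058 = true := by
  decide +kernel

end H29.CosetCert.HeSlp
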