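import Cfsg.Agent.H29.CosetCert.He.Cert
import Cfsg.Agent.H29.CosetCert.He.Orbits
import Cfsg.Agent.H29.CosetCert.HeOrder.SlpAll
import Cfsg.Agent.H29.CosetCert.HeIdent
import Cfsg.Agent.H29.CosetCert.SimpleMany
import Cfsg.Agent.H29.CosetCert.HeOrder.L0Deds
import Cfsg.Agent.H29.CosetCert.HeOrder.L1Deds
import Cfsg.Agent.H29.CosetCert.HeOrder.L2Deds
import Cfsg.Agent.H29.CosetCert.HeOrder.L3Deds
import Cfsg.Agent.H29.CosetCert.HeOrder.L4Deds
import Cfsg.Agent.H29.CosetCert.HeOrder.L5Deds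

/-! Order and simplicity of the presented group He. -/

set_option autoImplicit false

namespace H29.CosetCert.HeOrd

open H29.CosetCert

theorem X_gen : (HeIdent.X.map HeCert.g).prod = 1 := by
  have h := HeIdent.word_one HeCert.g (genAt_sq _ _ HeCert.L HeCert.L_nodes)
    (genAt_high _ _ HeCert.L 15 (by decide))
    (rels_of_classified _ _ HeCert.L HeCert.L_all HeCert.L_nodes (E := HeCert.E) (by decide +kernel)
      HeCert.E_gen)
  rwa [prod_reverse_of_sq (genAt_sq _ _ HeCert.L HeCert.L_nodes), inv_eq_one] at h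

theorem E_gen : ∀ e ∈ HeIdent.X :: HeCert.E, (e.map HeCert.g).prod = 1 := by
  intro e he
  rcases List.mem_cons.1 he with rfl | he
  · exact X_gen
  · exact HeCert.E_gen e he

theorem bound5 : (maskGroup HeCert.g 1 : Set Cfsg.Spor.He).Finite ∧
    (maskGroup HeCert.g 1 : Set Cfsg.Spor.He).ncard ≤ 2 := by
  obtain ⟨hf, hb⟩ : (maskGroup HeCert.g 0 : Set Cfsg.Spor.He).Finite ∧
      (maskGroup HeCert.g 0 : Set Cfsg.Spor.He).ncard ≤ 1 := card_maskGroup_zero _
  exact card_maskGroup_le HeCert.g (genAt_sq _ _ HeCert.L HeCert.L_nodes) HeLvl5.lvl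
    (rels_of_classified _ _ HeCert.L HeCert.L_all HeCert.L_nodes (E := HeIdent.X :: HeCert.E) (by decide +kernel)
      E_gen)
    HeLvl5.words_ok HeLvl5.defs_ok HeLvl5.deds HeLvl5.node0 (show 0 < 2 by norm_num) HeLvl5.closed
    (b := 1) hf hb

theorem bound4 : (maskGroup HeCert.g 5 : Set Cfsg.Spor.He).Finite ∧
    (maskGroup HeCert.g 5 : Set Cfsg.Spor.He).ncard ≤ 4 := by
  obtain ⟨hf, hb⟩ : (maskGroup HeCert.g 1 : Set Cfsg.Spor.He).Finite ∧
      (maskGroup HeCert.g 1 : Set Cfsg.Spor.He).ncard ≤ 2 := bound5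
  exact card_maskGroup_le HeCert.g (genAt_sq _ _ HeCert.L HeCert.L_nodes) HeLvl4.lvl
    (rels_of_classified _ _ HeCert.L HeCert.L_all HeCert.L_nodes (E := HeIdent.X :: HeCert.E) (by decide +kernel)
      E_gen)
    HeLvl4.words_ok HeLvl4.defs_ok HeLvl4.deds HeLvl4.node0 (show 0 < 2 by norm_num) HeLvl4.closed
    (b := 2) hf hb

theorem bound3 : (maskGroup HeCert.g 13 : Set Cfsg.Spor.He).Finite ∧
    (maskGroup HeCert.g 13 : Set Cfsg.Spor.He).ncard ≤ 20 := by
  obtain ⟨hf, hb⟩ : (maskGroup HeCert.g 5 : Set Cfsg.Spor.He).Finite ∧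
      (maskGroup HeCert.g 5 : Set Cfsg.Spor.He).ncard ≤ 4 := bound4
  exact card_maskGroup_le HeCert.g (genAt_sq _ _ HeCert.L HeCert.L_nodes) HeLvl3.lvl
    (rels_of_classified _ _ HeCert.L HeCert.L_all HeCert.L_nodes (E := HeIdent.X :: HeCert.E) (by decide +kernel)
      E_gen)
    HeLvl3.words_ok HeLvl3.defs_ok HeLvl3.deds HeLvl3.node0 (show 0 < 5 by norm_num) HeLvl3.closed
    (b := 4) hf hb

theorem bound2 : (maskGroup HeCert.g 29 : Set Cfsg.Spor.He).Finite ∧
    (maskGroup HeCert.g 29 : Set Cfsg.Spor.He).ncard ≤ 120 := by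
  obtain ⟨hf, hb⟩ : (maskGroup HeCert.g 13 : Set Cfsg.Spor.He).Finite ∧
      (maskGroup HeCert.g 13 : Set Cfsg.Spor.He).ncard ≤ 20 := bound3
  exact card_maskGroup_le HeCert.g (genAt_sq _ _ HeCert.L HeCert.L_nodes) HeLvl2.lvl
    (rels_of_classified _ _ HeCert.L HeCert.L_all HeCert.L_nodes (E := HeIdent.X :: HeCert.E) (by decide +kernel)
      E_gen)
    HeLvl2.words_ok HeLvl2.defs_ok HeLvl2.deds HeLvl2.node0 (show 0 < 6 by norm_num) HeLvl2.closed
    (b := 20) hf hb

theorem bound1 : (maskGroup HeCert.g 125 : Set Cfsg.Spor.He).Finite ∧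
    (maskGroup HeCert.g 125 : Set Cfsg.Spor.He).ncard ≤ 80640 := by
  obtain ⟨hf, hb⟩ : (maskGroup HeCert.g 29 : Set Cfsg.Spor.He).Finite ∧
      (maskGroup HeCert.g 29 : Set Cfsg.Spor.He).ncard ≤ 120 := bound2
  exact card_maskGroup_le HeCert.g (genAt_sq _ _ HeCert.L HeCert.L_nodes) HeLvl1.lvl
    (rels_of_classified _ _ HeCert.L HeCert.L_all HeCert.L_nodes (E := HeIdent.X :: HeCert.E) (by decide +kernel)
      E_gen)
    HeLvl1.words_ok HeLvl1.defs_ok HeLvl1.deds HeLvl1.node0 (show 0 < 672 by norm_num) HeLvl1.closed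
    (b := 120) hf hb

theorem bound0 : (maskGroup HeCert.g 127 : Set Cfsg.Spor.He).Finite ∧
    (maskGroup HeCert.g 127 : Set Cfsg.Spor.He).ncard ≤ 4030387200 := by
  obtain ⟨hf, hb⟩ : (maskGroup HeCert.g 125 : Set Cfsg.Spor.He).Finite ∧
      (maskGroup HeCert.g 125 : Set Cfsg.Spor.He).ncard ≤ 80640 := bound1
  exact card_maskGroup_le HeCert.g (genAt_sq _ _ HeCert.L HeCert.L_nodes) HeLvl0.lvl
    (rels_of_classified _ _ HeCert.L HeCert.L_all HeCert.L_nodes (E := HeIdent.X :: HeCert.E) (by decide +kernel)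
      E_gen)
    HeLvl0.words_ok HeLvl0.defs_ok HeLvl0.deds HeLvl0.node0 (show 0 < 49980 by norm_num) HeLvl0.closed
    (b := 80640) hf hb

theorem mask_top : maskGroup HeCert.g 127 = ⊤ := by
  rw [eq_top_iff, ← genAt_gen _ _ HeCert.L HeCert.L_all]
  refine (Subgroup.closure_le _).2 ?_
  rintro _ ⟨x, rfl⟩
  by_cases hx : x < 7
  · exact Subgroup.subset_closure ⟨x, by interval_cases x <;> decide, rfl⟩
  · rw [genAt_high _ _ HeCert.L x (by simpa using (by omega : 7 ≤ x))]
    exact one_mem _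

theorem finite_card : Finite Cfsg.Spor.He ∧ Nat.card Cfsg.Spor.He ≤ 4030387200 := by
  obtain ⟨hf, hb⟩ := bound0
  rw [mask_top, Subgroup.coe_top] at hf hb
  haveI : Finite Cfsg.Spor.He := Set.finite_univ_iff.1 hf
  exact ⟨this, by simpa [Set.ncard_univ] using hb⟩

theorem injective_card :
    Function.Injective HeCert.cert.ρ ∧ Nat.card Cfsg.Spor.He = 4030387200 := by
  haveI := finite_card.1
  exact HeCert.cert.injective_of_chain HeSlp.slp (by decide) HeSlp.entries_ok HeSlp.chain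
    HeSlp.chain_ok (by decide +kernel) finite_card.2

theorem simple : IsSimpleGroup Cfsg.Spor.He := by
  haveI := finite_card.1
  haveI : Nontrivial Cfsg.Spor.He :=
    Finite.one_lt_card_iff_nontrivial.1 (by rw [injective_card.2]; norm_num)
  obtain ⟨q0, h0, h0'⟩ := HeCert.cert.exists_orbit (s := 1) (by decide)
    HeData.orb1_grow HeData.orb1_inv HeData.orb1_count
  obtain ⟨q1, h1, h1'⟩ := HeCert.cert.exists_orbit (s := 2) (by decide)
    HeData.orb2_grow HeData.orb2_inv HeData.orb2_count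
  obtain ⟨q2, h2, h2'⟩ := HeCert.cert.exists_orbit (s := 46) (by decide)
    HeData.orb3_grow HeData.orb3_inv HeData.orb3_count
  obtain ⟨q3, h3, h3'⟩ := HeCert.cert.exists_orbit (s := 65) (by decide)
    HeData.orb4_grow HeData.orb4_inv HeData.orb4_count
  have hH : Nat.card HeCert.H = 1958400 := by
    have h := HeCert.H.card_mul_index
    rw [HeCert.cert.index_eq, show HeCert.cert.n = 2058 from rfl, injective_card.2] at h
    exact Nat.eq_of_mul_eq_mul_right (show 0 < 2058 by norm_num) (h.trans (by norm_num))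
  let m : Fin 4 → ℕ := ![HeData.orb1, HeData.orb2, HeData.orb3, HeData.orb4]
  have hcov : allIn (fun c => c == 0 || HeData.orb1.testBit c || HeData.orb2.testBit c ||
      HeData.orb3.testBit c || HeData.orb4.testBit c) 0 2058 = true := by decide +kernel
  refine HeCert.cert.isSimpleGroup_of_transitive HeSlp.slp injective_card.1 rfl (by decide)
    HeSlp.entries_ok (fun N hN hbot => HeCert.cert.sup_eq_top_of_orbits injective_card.1 m
      ![1360, 425, 136, 136] ![q0, q1, q2, q3] ?_ ?_ ?_ ?_ ?_ ?_ hN hbot)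
    (show HeSlp.elt < HeSlp.slp.K by decide) (by rw [hH]; decide +kernel) HeSlp.pow_ok HeSlp.items
    HeSlp.items_ok
  · intro i; fin_cases i
    exacts [h0, h1, h2, h3]
  · intro i; fin_cases i
    exacts [h0', h1', h2', h3']
  · intro c hc hne
    have h := (allIn_iff _ _ _).1 hcov c (Nat.zero_le _) (by change c < 2058 at hc; omega)
    simp only [Bool.or_eq_true, beq_iff_eq] at h
    rcases h with (((h | h) | h) | h) | h
    · exact absurd h hne
    · exact ⟨0, h⟩
    · exact ⟨1, h⟩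
    · exact ⟨2, h⟩
    · exact ⟨3, h⟩
  · intro i; fin_cases i <;> decide +kernel
  · intro i j hij
    fin_cases i <;> fin_cases j <;> first | exact absurd rfl hij | decide +kernel
  · show ∀ S : Finset (Fin 4), S.Nonempty →
      (1 + ∑ i ∈ S, (![1360, 425, 136, 136] : Fin 4 → ℕ) i) ∣ 2058 → S = Finset.univ
    decide +kernel

end H29.CosetCert.HeOrd
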