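import Cfsg.Agent.H29.CosetCert.HeOrder.L0

/-! Certificate data for the order of He, produced outside Lean and checked here. -/

set_option autoImplicit false
set_option maxRecDepth 16000
set_option Elab.async false

namespace H29.CosetCert.HeLvl0

open H29.CosetCert

theorem closed24 : allIn lvl.closedAt 12000 500 = true := by decide +kernel

theorem closed25 : allIn lvl.closedAt 12500 500 = true := by decide +kernel

theorem closed26 : allIn lvl.closedAt 13000 500 = true := by decide +kernel

theorem closed27 : allIn lvl.closedAt 13500 500 = true := by decide +kernel

theorem closed28 : allIn lvl.closedAt 14000 500 = true := by decide +kernel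

theorem closed29 : allIn lvl.closedAt 14500 500 = true := by decide +kernel

end H29.CosetCert.HeLvl0
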