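import Cfsg.Agent.H29.CosetCert.HeOrder.L0

/-! Certificate data for the order of He, produced outside Lean and checked here. -/

set_option autoImplicit false
set_option maxRecDepth 16000
set_option Elab.async false

namespace H29.CosetCert.HeLvl0

open H29.CosetCert

theorem closed36 : allIn lvl.closedAt 18000 500 = true := by decide +kernel

theorem closed37 : allIn lvl.closedAt 18500 500 = true := by decide +kernel

theorem closed38 : allIn lvl.closedAt 19000 500 = true := by decide +kernel

theorem closed39 : allIn lvl.closedAt 19500 500 = true := by decide +kernel

theorem closed40 : allIn lvl.closedAt 20000 500 = true := by decide +kernel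

theorem closed41 : allIn lvl.closedAt 20500 500 = true := by decide +kernel

end H29.CosetCert.HeLvl0
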