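import Cfsg.Agent.H29.CosetCert.HeOrder.L0C0
import Cfsg.Agent.H29.CosetCert.HeOrder.L0C1
import Cfsg.Agent.H29.CosetCert.HeOrder.L0C2
import Cfsg.Agent.H29.CosetCert.HeOrder.L0C3
import Cfsg.Agent.H29.CosetCert.HeOrder.L0C4
import Cfsg.Agent.H29.CosetCert.HeOrder.L0C5
import Cfsg.Agent.H29.CosetCert.HeOrder.L0C6
import Cfsg.Agent.H29.CosetCert.HeOrder.L0C7
import Cfsg.Agent.H29.CosetCert.HeOrder.L0C8
import Cfsg.Agent.H29.CosetCert.HeOrder.L0C9
import Cfsg.Agent.H29.CosetCert.HeOrder.L0C10
import Cfsg.Agent.H29.CosetCert.HeOrder.L0C11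
import Cfsg.Agent.H29.CosetCert.HeOrder.L0C12
import Cfsg.Agent.H29.CosetCert.HeOrder.L0C13
import Cfsg.Agent.H29.CosetCert.HeOrder.L0C14
import Cfsg.Agent.H29.CosetCert.HeOrder.L0C15
import Cfsg.Agent.H29.CosetCert.HeOrder.L0C16

/-! Certificate data for the order of He, produced outside Lean and checked here. -/

set_option autoImplicit false
set_option maxRecDepth 16000
set_option Elab.async false

namespace H29.CosetCert.HeLvl0

open H29.CosetCert

theorem closed : allIn lvl.closedAt 0 49980 = true := by
  rw [allIn_iff]
  intro c _ hc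
  by_cases h0 : c < 500
  · exact (allIn_iff _ _ _).1 closed0 c (by omega) (by omega)
  by_cases h1 : c < 1000
  · exact (allIn_iff _ _ _).1 closed1 c (by omega) (by omega)
  by_cases h2 : c < 1500
  · exact (allIn_iff _ _ _).1 closed2 c (by omega) (by omega)
  by_cases h3 : c < 2000
  · exact (allIn_iff _ _ _).1 closed3 c (by omega) (by omega)
  by_cases h4 : c < 2500
  · exact (allIn_iff _ _ _).1 closed4 c (by omega) (by omega)
  by_cases h5 : c < 3000
  · exact (allIn_iff _ _ _).1 closed5 c (by omega) (by omega)
  by_cases h6 : c < 3500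
  · exact (allIn_iff _ _ _).1 closed6 c (by omega) (by omega)
  by_cases h7 : c < 4000
  · exact (allIn_iff _ _ _).1 closed7 c (by omega) (by omega)
  by_cases h8 : c < 4500
  · exact (allIn_iff _ _ _).1 closed8 c (by omega) (by omega)
  by_cases h9 : c < 5000
  · exact (allIn_iff _ _ _).1 closed9 c (by omega) (by omega)
  by_cases h10 : c < 5500
  · exact (allIn_iff _ _ _).1 closed10 c (by omega) (by omega)
  by_cases h11 : c < 6000
  · exact (allIn_iff _ _ _).1 closed11 c (by omega) (by omega)
  by_cases h12 : c < 6500
  · exact (allIn_iff _ _ _).1 closed12 c (by omega) (by omega)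
  by_cases h13 : c < 7000
  · exact (allIn_iff _ _ _).1 closed13 c (by omega) (by omega)
  by_cases h14 : c < 7500
  · exact (allIn_iff _ _ _).1 closed14 c (by omega) (by omega)
  by_cases h15 : c < 8000
  · exact (allIn_iff _ _ _).1 closed15 c (by omega) (by omega)
  by_cases h16 : c < 8500
  · exact (allIn_iff _ _ _).1 closed16 c (by omega) (by omega)
  by_cases h17 : c < 9000
  · exact (allIn_iff _ _ _).1 closed17 c (by omega) (by omega)
  by_cases h18 : c < 9500
  · exact (allIn_iff _ _ _).1 closed18 c (by omega) (by omega)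
  by_cases h19 : c < 10000
  · exact (allIn_iff _ _ _).1 closed19 c (by omega) (by omega)
  by_cases h20 : c < 10500
  · exact (allIn_iff _ _ _).1 closed20 c (by omega) (by omega)
  by_cases h21 : c < 11000
  · exact (allIn_iff _ _ _).1 closed21 c (by omega) (by omega)
  by_cases h22 : c < 11500
  · exact (allIn_iff _ _ _).1 closed22 c (by omega) (by omega)
  by_cases h23 : c < 12000
  · exact (allIn_iff _ _ _).1 closed23 c (by omega) (by omega)
  by_cases h24 : c < 12500
  · exact (allIn_iff _ _ _).1 closed24 c (by omega) (by omega)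
  by_cases h25 : c < 13000
  · exact (allIn_iff _ _ _).1 closed25 c (by omega) (by omega)
  by_cases h26 : c < 13500
  · exact (allIn_iff _ _ _).1 closed26 c (by omega) (by omega)
  by_cases h27 : c < 14000
  · exact (allIn_iff _ _ _).1 closed27 c (by omega) (by omega)
  by_cases h28 : c < 14500
  · exact (allIn_iff _ _ _).1 closed28 c (by omega) (by omega)
  by_cases h29 : c < 15000
  · exact (allIn_iff _ _ _).1 closed29 c (by omega) (by omega)
  by_cases h30 : c < 15500
  · exact (allIn_iff _ _ _).1 closed30 c (by omega) (by omega)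
  by_cases h31 : c < 16000
  · exact (allIn_iff _ _ _).1 closed31 c (by omega) (by omega)
  by_cases h32 : c < 16500
  · exact (allIn_iff _ _ _).1 closed32 c (by omega) (by omega)
  by_cases h33 : c < 17000
  · exact (allIn_iff _ _ _).1 closed33 c (by omega) (by omega)
  by_cases h34 : c < 17500
  · exact (allIn_iff _ _ _).1 closed34 c (by omega) (by omega)
  by_cases h35 : c < 18000
  · exact (allIn_iff _ _ _).1 closed35 c (by omega) (by omega)
  by_cases h36 : c < 18500
  · exact (allIn_iff _ _ _).1 closed36 c (by omega) (by omega)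
  by_cases h37 : c < 19000
  · exact (allIn_iff _ _ _).1 closed37 c (by omega) (by omega)
  by_cases h38 : c < 19500
  · exact (allIn_iff _ _ _).1 closed38 c (by omega) (by omega)
  by_cases h39 : c < 20000
  · exact (allIn_iff _ _ _).1 closed39 c (by omega) (by omega)
  by_cases h40 : c < 20500
  · exact (allIn_iff _ _ _).1 closed40 c (by omega) (by omega)
  by_cases h41 : c < 21000
  · exact (allIn_iff _ _ _).1 closed41 c (by omega) (by omega)
  by_cases h42 : c < 21500
  · exact (allIn_iff _ _ _).1 closed42 c (by omega) (by omega)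
  by_cases h43 : c < 22000
  · exact (allIn_iff _ _ _).1 closed43 c (by omega) (by omega)
  by_cases h44 : c < 22500
  · exact (allIn_iff _ _ _).1 closed44 c (by omega) (by omega)
  by_cases h45 : c < 23000
  · exact (allIn_iff _ _ _).1 closed45 c (by omega) (by omega)
  by_cases h46 : c < 23500
  · exact (allIn_iff _ _ _).1 closed46 c (by omega) (by omega)
  by_cases h47 : c < 24000
  · exact (allIn_iff _ _ _).1 closed47 c (by omega) (by omega)
  by_cases h48 : c < 24500
  · exact (allIn_iff _ _ _).1 closed48 c (by omega) (by omega)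
  by_cases h49 : c < 25000
  · exact (allIn_iff _ _ _).1 closed49 c (by omega) (by omega)
  by_cases h50 : c < 25500
  · exact (allIn_iff _ _ _).1 closed50 c (by omega) (by omega)
  by_cases h51 : c < 26000
  · exact (allIn_iff _ _ _).1 closed51 c (by omega) (by omega)
  by_cases h52 : c < 26500
  · exact (allIn_iff _ _ _).1 closed52 c (by omega) (by omega)
  by_cases h53 : c < 27000
  · exact (allIn_iff _ _ _).1 closed53 c (by omega) (by omega)
  by_cases h54 : c < 27500
  · exact (allIn_iff _ _ _).1 closed54 c (by omega) (by omega)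
  by_cases h55 : c < 28000
  · exact (allIn_iff _ _ _).1 closed55 c (by omega) (by omega)
  by_cases h56 : c < 28500
  · exact (allIn_iff _ _ _).1 closed56 c (by omega) (by omega)
  by_cases h57 : c < 29000
  · exact (allIn_iff _ _ _).1 closed57 c (by omega) (by omega)
  by_cases h58 : c < 29500
  · exact (allIn_iff _ _ _).1 closed58 c (by omega) (by omega)
  by_cases h59 : c < 30000
  · exact (allIn_iff _ _ _).1 closed59 c (by omega) (by omega)
  by_cases h60 : c < 30500
  · exact (allIn_iff _ _ _).1 closed60 c (by omega) (by omega)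
  by_cases h61 : c < 31000
  · exact (allIn_iff _ _ _).1 closed61 c (by omega) (by omega)
  by_cases h62 : c < 31500
  · exact (allIn_iff _ _ _).1 closed62 c (by omega) (by omega)
  by_cases h63 : c < 32000
  · exact (allIn_iff _ _ _).1 closed63 c (by omega) (by omega)
  by_cases h64 : c < 32500
  · exact (allIn_iff _ _ _).1 closed64 c (by omega) (by omega)
  by_cases h65 : c < 33000
  · exact (allIn_iff _ _ _).1 closed65 c (by omega) (by omega)
  by_cases h66 : c < 33500
  · exact (allIn_iff _ _ _).1 closed66 c (by omega) (by omega)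
  by_cases h67 : c < 34000
  · exact (allIn_iff _ _ _).1 closed67 c (by omega) (by omega)
  by_cases h68 : c < 34500
  · exact (allIn_iff _ _ _).1 closed68 c (by omega) (by omega)
  by_cases h69 : c < 35000
  · exact (allIn_iff _ _ _).1 closed69 c (by omega) (by omega)
  by_cases h70 : c < 35500
  · exact (allIn_iff _ _ _).1 closed70 c (by omega) (by omega)
  by_cases h71 : c < 36000
  · exact (allIn_iff _ _ _).1 closed71 c (by omega) (by omega)
  by_cases h72 : c < 36500
  · exact (allIn_iff _ _ _).1 closed72 c (by omega) (by omega)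
  by_cases h73 : c < 37000
  · exact (allIn_iff _ _ _).1 closed73 c (by omega) (by omega)
  by_cases h74 : c < 37500
  · exact (allIn_iff _ _ _).1 closed74 c (by omega) (by omega)
  by_cases h75 : c < 38000
  · exact (allIn_iff _ _ _).1 closed75 c (by omega) (by omega)
  by_cases h76 : c < 38500
  · exact (allIn_iff _ _ _).1 closed76 c (by omega) (by omega)
  by_cases h77 : c < 39000
  · exact (allIn_iff _ _ _).1 closed77 c (by omega) (by omega)
  by_cases h78 : c < 39500
  · exact (allIn_iff _ _ _).1 closed78 c (by omega) (by omega)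
  by_cases h79 : c < 40000
  · exact (allIn_iff _ _ _).1 closed79 c (by omega) (by omega)
  by_cases h80 : c < 40500
  · exact (allIn_iff _ _ _).1 closed80 c (by omega) (by omega)
  by_cases h81 : c < 41000
  · exact (allIn_iff _ _ _).1 closed81 c (by omega) (by omega)
  by_cases h82 : c < 41500
  · exact (allIn_iff _ _ _).1 closed82 c (by omega) (by omega)
  by_cases h83 : c < 42000
  · exact (allIn_iff _ _ _).1 closed83 c (by omega) (by omega)
  by_cases h84 : c < 42500
  · exact (allIn_iff _ _ _).1 closed84 c (by omega) (by omega)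
  by_cases h85 : c < 43000
  · exact (allIn_iff _ _ _).1 closed85 c (by omega) (by omega)
  by_cases h86 : c < 43500
  · exact (allIn_iff _ _ _).1 closed86 c (by omega) (by omega)
  by_cases h87 : c < 44000
  · exact (allIn_iff _ _ _).1 closed87 c (by omega) (by omega)
  by_cases h88 : c < 44500
  · exact (allIn_iff _ _ _).1 closed88 c (by omega) (by omega)
  by_cases h89 : c < 45000
  · exact (allIn_iff _ _ _).1 closed89 c (by omega) (by omega)
  by_cases h90 : c < 45500
  · exact (allIn_iff _ _ _).1 closed90 c (by omega) (by omega)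
  by_cases h91 : c < 46000
  · exact (allIn_iff _ _ _).1 closed91 c (by omega) (by omega)
  by_cases h92 : c < 46500
  · exact (allIn_iff _ _ _).1 closed92 c (by omega) (by omega)
  by_cases h93 : c < 47000
  · exact (allIn_iff _ _ _).1 closed93 c (by omega) (by omega)
  by_cases h94 : c < 47500
  · exact (allIn_iff _ _ _).1 closed94 c (by omega) (by omega)
  by_cases h95 : c < 48000
  · exact (allIn_iff _ _ _).1 closed95 c (by omega) (by omega)
  by_cases h96 : c < 48500
  · exact (allIn_iff _ _ _).1 closed96 c (by omega) (by omega)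
  by_cases h97 : c < 49000
  · exact (allIn_iff _ _ _).1 closed97 c (by omega) (by omega)
  by_cases h98 : c < 49500
  · exact (allIn_iff _ _ _).1 closed98 c (by omega) (by omega)
  by_cases h99 : c < 49980
  · exact (allIn_iff _ _ _).1 closed99 c (by omega) (by omega)
  omega

end H29.CosetCert.HeLvl0
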