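import Cfsg.Agent.H29.CosetCert.HeOrder.Slp
import Cfsg.Agent.H29.CosetCert.He.Table

/-! Certificate data for the order of He, produced outside Lean and checked here. -/

set_option autoImplicit false
set_option maxRecDepth 16000
set_option Elab.async false

namespace H29.CosetCert.HeSlp

open H29.CosetCert

theorem entry3 : slp.entryOK HeData.T 2058 3 = true := by decide +kernel

theorem entry11 : slp.entryOK HeData.T 2058 11 = true := by decide +kernel

theorem entry15 : slp.entryOK HeData.T 2058 15 = true := by decide +kernel

theorem entry17 : slp.entryOK HeData.T 2058 17 = true := by decide +kernel

theorem entry19 : slp.entryOK HeData.T 2058 19 = true := by decide +kernel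

theorem entry20 : slp.entryOK HeData.T 2058 20 = true := by decide +kernel

theorem entry28 : slp.entryOK HeData.T 2058 28 = true := by decide +kernel

theorem entry32 : slp.entryOK HeData.T 2058 32 = true := by decide +kernel

theorem entry36 : slp.entryOK HeData.T 2058 36 = true := by decide +kernel

theorem entry37 : slp.entryOK HeData.T 2058 37 = true := by decide +kernel

theorem entry38 : slp.entryOK HeData.T 2058 38 = true := by decide +kernel

theorem entry43 : slp.entryOK HeData.T 2058 43 = true := by decide +kernel

theorem entry50 : slp.entryOK HeData.T 2058 50 = true := by decide +kernel

theorem entry54 : slp.entryOK HeData.T 2058 54 = true := by decide +kernel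

end H29.CosetCert.HeSlp
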